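import Groth.Agent.H8Props.RelPCTransfer
import Groth.Agent.H8Props.RelPCRep
import Groth.Agent.H16Derived.BaseChange.FinitePC
import Groth.Agent.H16Derived.ProjFormula.ClosedImm
import Groth.Agent.H17.ConsModModels

/-!
# Relatively pseudo-coherent objects over a locally Noetherian base have coherent cohomology
-/

set_option autoImplicit false
set_option linter.style.haveILetI false
set_option backward.isDefEq.respectTransparency false

universe u

open CategoryTheory CategoryTheory.Limits AlgebraicGeometry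

attribute [local instance] HasDerivedCategory.standard

namespace Groth.Agent.H16Derived.Exchange

open Groth.Agent.H16Derived.KFlat Groth.Agent.H16Derived.KFlat.Stalk H8Props H8Props.RelPC H8Props.PushPC

variable {X S : Scheme.{u}}

/-- **Coherence.** -/
theorem isCohD_of_isPseudoCoherentRelAll [IsLocallyNoetherian S] (f : X ⟶ S) {E : DCoh.D X}
    (hE : DerSch.IsPseudoCoherentRelAll f E) : DCoh.IsCohD E := by
  intro i
  have key : ∀ x : X, ∃ (U : X.Opens), x ∈ U ∧ Coh.IsCoh ((DCoh.HD E i).restrict U.ι) := fun x => by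
    haveI : LocallyOfFiniteType f := (hE 0).1
    obtain ⟨_, ⟨V, hV : IsAffineOpen V, rfl⟩, hxV, -⟩ :=
      S.isBasis_affineOpens.exists_subset_of_mem_open (Set.mem_univ (f.base x)) isOpen_univ
    obtain ⟨U, hU, hxU, hUV⟩ := exists_isAffineOpen_mem_and_subset (U := f ⁻¹ᵁ V) (x := x) hxV
    obtain ⟨n, φ, hφ⟩ := exists_isChart f U V hUV (f.finiteType_appLE hV hU hUV)
    haveI := isClosedImmersion_chartImm hU φ hφ.1
    let g := DerSch.chartImm U φ
    haveI : IsNoetherianRing Γ(S, V) := IsLocallyNoetherian.component_noetherian ⟨V, hV⟩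
    have hpc : ∀ m : ℤ, DCoh.IsPseudoCoherentD m ((pushD g).obj ((rd U.ι).obj E)) := fun m =>
      (chartPC_iff φ m E).1 (chartPC_of_rel (hE m) hU hV hUV φ hφ)
    have hq := BaseChange.isQCohD_of_pc hpc
    have hc : Coh.IsCoh ((Scheme.Modules.pushforward g).obj (DCoh.HD ((rd U.ι).obj E) i)) :=
      H10Coh.isCoh_of_iso (hdPushD g _ i) (((isPseudoCoherentD_iff_isCoh hq i).1 (hpc i)).1 i le_rfl)
    haveI := ProjFormula.isIso_counit_of_isClosedImmersion g (DCoh.HD ((rd U.ι).obj E) i)
    exact ⟨U, hxU, H10Coh.isCoh_of_iso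
      (asIso ((Scheme.Modules.pullbackPushforwardAdjunction g).counit.app _) ≪≫ homologyRdIso U.ι E i)
      (H17.ConsProp.isCoh_pullback g hc)⟩
  refine ⟨isQCoh_of_local _ fun x => ?_, isFT_of_local fun x => ?_⟩
  · obtain ⟨U, hx, h⟩ := key x
    exact ⟨U, hx, h.1⟩
  · obtain ⟨U, hx, h⟩ := key x
    exact ⟨_, U.ι, inferInstance, ⟨⟨x, hx⟩, rfl⟩, h.2⟩

end Groth.Agent.H16Derived.Exchange
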