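import Groth.Agent.H16Derived.Exchange.RelCoh
import Groth.Agent.H16Derived.ProperSupp.Coherent
import Groth.Agent.H16Derived.KFlat.RestrictD
import Groth.Agent.H10Coh.AffinePush
import Groth.Agent.H10Coh.Support
import Groth.Agent.H16Derived.Thomason.CohExtend
import Groth.Agent.H8Props.RelPCTransfer
import Groth.Agent.S6236

/-!
# Proper direct images over a locally Noetherian base preserve relative pseudo-coherence
-/

set_option autoImplicit false
set_option linter.style.haveILetI false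
set_option backward.isDefEq.respectTransparency false

universe u

open CategoryTheory CategoryTheory.Limits AlgebraicGeometry

attribute [local instance] HasDerivedCategory.standard

namespace Groth.Agent.H16Derived.Exchange

open Groth.Agent.H16Derived.KFlat Groth.Agent.H16Derived.KFlat.Stalk H8Props H8Props.RelPC H8Props.PushPC

variable {X Y S : Scheme.{u}}

/-- Coherent cohomology restricts. -/
theorem isCohD_rd (j : X ⟶ Y) [IsOpenImmersion j] {K : DCoh.D Y} (hK : DCoh.IsCohD K) :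
    DCoh.IsCohD ((rd j).obj K) := fun i =>
  H10Coh.isCoh_of_iso ((Scheme.Modules.restrictFunctorIsoPullback j).symm.app (DCoh.HD K i) ≪≫
    (homologyRdIso j K i).symm) (H17.ConsProp.isCoh_pullback j (hK i))

/-- A bounded above object with coherent cohomology passes every chart test over a Noetherian ring. -/
theorem chartPC_of_isCohD {U : X.Opens} (hU : IsAffineOpen U) {V : S.Opens} [IsNoetherianRing Γ(S, V)] {n : ℕ}
    (φ : MvPolynomial (Fin n) Γ(S, V) →+* Γ(X, U)) (hφ : Function.Surjective φ) (K : DCoh.D X)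
    (hK : DCoh.IsCohD ((rd U.ι).obj K)) (b : ℤ) [((rd U.ι).obj K).IsLE b] (m : ℤ) :
    DerSch.ChartPC m K U V φ := by
  haveI := isClosedImmersion_chartImm hU φ hφ
  let g := DerSch.chartImm U φ
  rw [chartPC_iff]
  haveI := isLE_pushD g ((rd U.ι).obj K) b
  have hcoh : DCoh.IsCohD ((pushD g).obj ((rd U.ι).obj K)) := fun i =>
    H10Coh.isCoh_of_iso (hdPushD g _ i).symm (H10Coh.isCoh_push_of_isFinite (f := g) _ (hK i))
  exact (isPseudoCoherentD_iff_isCoh (fun i => (hcoh i).1) m).2 ⟨fun i _ => hcoh i, b, inferInstance⟩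

/-- A relatively pseudo-coherent object is bounded above on quasi-compact opens. -/
theorem exists_isLE_rd {p : X ⟶ S} {E : DCoh.D X} {m : ℤ} (hE : DerSch.IsPseudoCoherentRel p m E) (W : X.Opens)
    [CompactSpace (W : Scheme.{u})] : ∃ b : ℤ, ((rd W.ι).obj E).IsLE b := by
  refine exists_isLE_of_local fun x => ?_
  obtain ⟨U, V, k, φ, hx, hφ, hK⟩ := exists_chart hE (W.ι x)
  haveI := isClosedImmersion_chartImm U.2 φ hφ
  let g := DerSch.chartImm (U : X.Opens) φ
  obtain ⟨b, hb⟩ := S6236.exists_isLE_pc _ m ((chartPC_iff φ m E).1 hK)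
  haveI := hb
  have hU : ((rd (U : X.Opens).ι).obj E).IsLE b := (DerivedCategory.isLE_iff _ _).2 fun i hi => by
    have hz : IsZero ((Scheme.Modules.pushforward g).obj (DCoh.HD ((rd (U : X.Opens).ι).obj E) i)) :=
      (DerivedCategory.isZero_of_isLE _ b i hi).of_iso (hdPushD g _ i).symm
    haveI := ProjFormula.isIso_counit_of_isClosedImmersion g (DCoh.HD ((rd (U : X.Opens).ι).obj E) i)
    exact ((Scheme.Modules.pullback g).map_isZero hz).of_iso
      (asIso ((Scheme.Modules.pullbackPushforwardAdjunction g).counit.app _)).symm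
  let V' : (W : Scheme.{u}).Opens := W.ι ⁻¹ᵁ (U : X.Opens)
  have hr : Set.range (V'.ι ≫ W.ι) ⊆ Set.range (U : X.Opens).ι := by
    rintro _ ⟨y, rfl⟩
    exact ⟨⟨_, y.2⟩, rfl⟩
  let k' := IsOpenImmersion.lift (U : X.Opens).ι (V'.ι ≫ W.ι) hr
  have hk : k' ≫ (U : X.Opens).ι = V'.ι ≫ W.ι := IsOpenImmersion.lift_fac _ _ _
  haveI : IsOpenImmersion (k' ≫ (U : X.Opens).ι) := hk ▸ inferInstance
  haveI : IsOpenImmersion k' := IsOpenImmersion.of_comp k' (U : X.Opens).ι
  haveI := hU
  haveI := isLE_rd k' ((rd (U : X.Opens).ι).obj E) b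
  exact ⟨V', b, hx, DerivedCategory.TStructure.t.isLE_of_iso
    ((rdComp k' (U : X.Opens).ι (V'.ι ≫ W.ι) hk E).symm ≪≫ rdComp V'.ι W.ι (V'.ι ≫ W.ι) rfl E) b⟩

/-- Proper direct images of coherent bounded objects over a Noetherian scheme. -/
theorem isCohD_rpush_proper [IsNoetherian Y] (f : X ⟶ Y) [IsProper f] [DCoh.HasRpush f] (K : DCoh.D X)
    (a b : ℤ) [K.IsGE a] [K.IsLE b] (hK : DCoh.IsCohD K) :
    DCoh.IsCohD ((DCoh.Rpush f).obj K) ∧ ∃ c : ℤ, ((DCoh.Rpush f).obj K).IsLE c := by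
  have hPS : ProperSupp.PS f K := ⟨hK, fun i => ⟨H10Coh.isClosed_support _ (hK i).2, inferInstance⟩⟩
  exact ProperSupp.coh_bounded f (b - a + 1).toNat a b (Int.self_le_toNat _) K ‹_› ‹_› hPS

/-- **Relative pseudo-coherence of proper direct images.** -/
theorem isPseudoCoherentRelAll_rpush_proper [IsLocallyNoetherian S] (p : X ⟶ S) (q : Y ⟶ S)
    [LocallyOfFiniteType q] (f : X ⟶ Y) [IsProper f] (w : f ≫ q = p) [DCoh.HasRpush f] (E : DCoh.D X) (a : ℤ)
    [E.IsGE a] (hE : DerSch.IsPseudoCoherentRelAll p E) :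
    DerSch.IsPseudoCoherentRelAll q ((DCoh.Rpush f).obj E) := by
  have hc := isCohD_of_isPseudoCoherentRelAll p hE
  intro m
  refine rel_of_charts q m _ fun U V e n φ hφ => ?_
  haveI : IsNoetherianRing Γ(S, (V : S.Opens)) := IsLocallyNoetherian.component_noetherian V
  haveI : IsLocallyNoetherian X := by
    haveI : LocallyOfFiniteType p := (hE 0).1
    exact LocallyOfFiniteType.isLocallyNoetherian p
  haveI : IsLocallyNoetherian Y := LocallyOfFiniteType.isLocallyNoetherian q
  haveI : CompactSpace ((U : Y.Opens) : Scheme.{u}) := isCompact_iff_compactSpace.1 U.2.isCompact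
  haveI : IsNoetherian ((U : Y.Opens) : Scheme.{u}) := { }
  let W := f ⁻¹ᵁ (U : Y.Opens)
  haveI : CompactSpace (W : Scheme.{u}) := QuasiCompact.compactSpace_of_compactSpace (f ∣_ (U : Y.Opens))
  haveI : DerivedCategory.IsGE ((rd W.ι).obj E) a := Thomason.isGE_rd W E a
  obtain ⟨b, hb⟩ := exists_isLE_rd (hE 0) W
  haveI := hb
  haveI := QCohD.hasRpush (f ∣_ (U : Y.Opens))
  obtain ⟨h1, c, h2⟩ := isCohD_rpush_proper (f ∣_ (U : Y.Opens)) ((rd W.ι).obj E) a b (isCohD_rd W.ι hc)
  obtain ⟨e'⟩ := nonempty_restrictD_rpush_iso f (U : Y.Opens)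
  haveI : ((rd (U : Y.Opens).ι).obj ((DCoh.Rpush f).obj E)).IsLE c :=
    haveI : DerivedCategory.IsLE ((DCoh.restrictD (f ⁻¹ᵁ (U : Y.Opens)).ι ⋙ DCoh.Rpush (f ∣_ (U : Y.Opens))).obj E) c := h2
    DerivedCategory.TStructure.t.isLE_of_iso (e'.app E).symm c
  refine chartPC_of_isCohD U.2 φ hφ.1 _ (fun i => ?_) c m
  exact H10Coh.isCoh_of_iso ((DerivedCategory.homologyFunctor _ i).mapIso (e'.app E).symm) (h1 i)

end Groth.Agent.H16Derived.Exchange
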