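import Groth.Agent.H16Derived.Exchange.Functor
import Groth.Agent.H16Derived.KFlat.PerfFibre
import Groth.Agent.H16Derived.KFlat.PerfRegular
import Groth.Agent.H16Derived.TorTest.RpushAmp
import Groth.Agent.H06FlatCx.FibreDim

/-!
# Exactness of `M ↦ H^p(M ⊗^L F)` and the cokernels of a local approximation
-/

set_option autoImplicit false
set_option linter.style.haveILetI false
set_option backward.isDefEq.respectTransparency false

universe u

open CategoryTheory CategoryTheory.Limits AlgebraicGeometry MonoidalCategory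

attribute [local instance] HasDerivedCategory.standard

namespace Groth.Agent.H16Derived.Exchange

open Groth.Agent.H16Derived.KFlat Groth.Agent.H16Derived.KFlat.Stalk
open Groth.Agent.H4DR.TorAmp
open Groth.Agent.H4DR.KFlatMod (bi)

section Ring

variable {R : Type u} [CommRing R]

theorem isIso_TFun_map {S P : DRing.Cx R} (π : S ⟶ P) (hS : KFlat.IsKFlat (bi R) S)
    (hP : KFlat.IsKFlat (bi R) P) {m : ℤ} (h : Approx m (DerivedCategory.Q.map π))
    (N : ModuleCat.{u} R) {j : ℤ} (hj : m < j) :
    IsIso (HomologicalComplex.homologyMap ((tens N).map π) j) := by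
  let C := CochainComplex.mappingCone π
  haveI hC : DerivedCategory.IsLE (DerivedCategory.Q.obj C) (m - 1) :=
    (approx_iff (DerivedCategory.mappingCone_triangle_distinguished π) m).1 h
  obtain ⟨Pr, hPr, ⟨e⟩⟩ := exists_projRep (K := DRing.toD C) (c := m - 1) fun i hi =>
    ModuleCat.subsingleton_of_isZero (DerivedCategory.isZero_of_isLE (DerivedCategory.Q.obj C) (m - 1) i hi)
  obtain ⟨φ, hφ, -⟩ := exists_qis hPr e
  haveI := hφ
  haveI := quasiIso_tens φ (isKFlat_of_flat hPr.above hPr.flat) (hS.mappingCone π hP) N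
  have hz : ∀ i, m - 1 < i → ((tens N).obj C).ExactAt i := fun i hi =>
    (TorTest.exactAt_of_quasiIso _ ‹QuasiIso ((tens N).map φ)› i).1
      ((HomologicalComplex.exactAt_iff _ _).2 (ShortComplex.exact_of_isZero_X₂ _
        ((tensorRight N).map_isZero (hPr.above i hi))))
  have hle : DerivedCategory.IsLE (DerivedCategory.Q.obj (CochainComplex.mappingCone ((tens N).map π))) (m - 1) := by
    refine (DerivedCategory.isLE_iff _ _).2 fun i hi => IsZero.of_iso ?_
      ((DerivedCategory.homologyFunctorFactors _ i).app _)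
    exact (HomologicalComplex.exactAt_iff_isZero_homology _ _).1 ((hz i hi).of_iso
      (CochainComplex.mappingCone.mapHomologicalComplexIso π (tensorRight N)))
  have hA : Approx m (DerivedCategory.Q.map ((tens N).map π)) :=
    (approx_iff (DerivedCategory.mappingCone_triangle_distinguished _) m).2 hle
  exact (NatIso.isIso_map_iff (DerivedCategory.homologyFunctorFactors (ModuleCat.{u} R) j) _).1 (hA.1 j hj)

/-- An approximation does not change the functors in degrees above it. -/
theorem nonempty_TFun_iso {S P : DRing.Cx R} (π : S ⟶ P) (hS : KFlat.IsKFlat (bi R) S)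
    (hP : KFlat.IsKFlat (bi R) P) {m : ℤ} (h : Approx m (DerivedCategory.Q.map π)) {j : ℤ} (hj : m < j) :
    Nonempty (CohIII.TFun S j ≅ CohIII.TFun P j) := by
  haveI := fun N => isIso_TFun_map π hS hP h N hj
  refine ⟨NatIso.ofComponents (fun N => @asIso _ _ _ _ _ (this N)) fun {N N'} φ => ?_⟩
  show HomologicalComplex.homologyMap _ j ≫ HomologicalComplex.homologyMap _ j =
    HomologicalComplex.homologyMap _ j ≫ HomologicalComplex.homologyMap _ j
  rw [← HomologicalComplex.homologyMap_comp, ← HomologicalComplex.homologyMap_comp]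
  congr 1
  refine HomologicalComplex.hom_ext _ _ fun q => ?_
  exact (whisker_exchange (π.f q) φ)

end Ring

variable {X : Scheme.{u}}

/-- The stalks at `x` of the cokernels of the `p`-th approximation are flat. -/
def FlatCokers {V : Scheme.{u}} (S : CochainComplex V.Modules ℤ) (p : ℤ) (v : V) : Prop :=
  FlatMod.IsFlatAt (cokernel (S.d (p - 1) p)) v ∧ FlatMod.IsFlatAt (cokernel (S.d p (p + 1))) v

/-- Flatness is insensitive to a bijective change of rings. -/
theorem flat_iff_of_bijective {A C : Type u} [CommRing A] [CommRing C] (φ : A →+* C)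
    (hφ : Function.Bijective φ) (M : Type u) [AddCommGroup M] [Module C M] :
    (letI := Module.compHom M φ; Module.Flat A M) ↔ Module.Flat C M := by
  letI := φ.toAlgebra
  letI := Module.compHom M φ
  haveI : IsScalarTower A C M := .of_algebraMap_smul fun _ _ => rfl
  haveI : Module.Flat A C := RingHom.Flat.of_bijective (f := φ) hφ
  refine ⟨fun h => ?_, fun h => Module.Flat.trans A C M⟩
  haveI := h
  let e : TensorProduct A C M ≃ₗ[C] M := LinearEquiv.ofBijective
    (TensorProduct.AlgebraTensorModule.lift ((LinearMap.lsmul C M).restrictScalars₁₂ C A)) (by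
      refine ⟨fun s t hst => ?_, fun q => ⟨(1 : C) ⊗ₜ q, by simp⟩⟩
      have key : ∀ z : TensorProduct A C M, ∃ q : M, z = (1 : C) ⊗ₜ q := fun z => by
        induction z using TensorProduct.induction_on with
        | zero => exact ⟨0, by simp⟩
        | add z w hz hw =>
          obtain ⟨a, rfl⟩ := hz
          obtain ⟨b, rfl⟩ := hw
          exact ⟨a + b, (TensorProduct.tmul_add _ _ _).symm⟩
        | tmul r q =>
          obtain ⟨a, rfl⟩ := hφ.2 r
          exact ⟨a • q, by rw [← TensorProduct.smul_tmul, Algebra.smul_def, mul_one]; rfl⟩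
      obtain ⟨a, rfl⟩ := key s
      obtain ⟨b, rfl⟩ := key t
      simp at hst
      rw [hst])
  exact Module.Flat.of_linearEquiv e.symm

/-- Flatness of a cokernel through the stalks over the bigger ring. -/
theorem flat_coker_stalk_iff {V : Scheme.{u}} (j : V ⟶ X) [IsOpenImmersion j] (S : CochainComplex V.Modules ℤ)
    (a b : ℤ) (v : V) :
    Module.Flat (X.presheaf.stalk (j.base v))
        (((DerSch.stalkCxOver j v).obj S).X b ⧸ LinearMap.range (((DerSch.stalkCxOver j v).obj S).d a b).hom) ↔
      FlatMod.IsFlatAt (cokernel (S.d a b)) v := by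
  haveI : PreservesFiniteColimits (DerSch.stalkOver j v) := comp_preservesFiniteColimits _ _
  let e' := (PreservesCokernel.iso (DerSch.stalkOver j v) (S.d a b) ≪≫
    ModuleCat.cokernelIsoRangeQuotient _).toLinearEquiv
  refine Iff.trans ?_ (flat_iff_of_bijective (j.stalkMap v).hom (ConcreteCategory.bijective_of_isIso (j.stalkMap v))
    ((DerSch.stalkFunctor V v).obj (cokernel (S.d a b))))
  show _ ↔ Module.Flat (X.presheaf.stalk (j.base v)) ((DerSch.stalkOver j v).obj (cokernel (S.d a b)))
  exact ⟨fun h => @Module.Flat.of_linearEquiv _ _ _ _ _ _ _ _ h e',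
    fun h => @Module.Flat.of_linearEquiv _ _ _ _ _ _ _ _ h e'.symm⟩

/-- An exact functor preserves approximations. -/
theorem approx_map {A B : Type*} [Category A] [Abelian A] [HasDerivedCategory A] [Category B] [Abelian B]
    [HasDerivedCategory B] (F : A ⥤ B) [F.Additive] [PreservesFiniteLimits F] [PreservesFiniteColimits F]
    {K L : CochainComplex A ℤ} {π : K ⟶ L} {m : ℤ} (h : Approx m (DerivedCategory.Q.map π)) :
    Approx m (DerivedCategory.Q.map ((F.mapHomologicalComplex (ComplexShape.up ℤ)).map π)) := by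
  have key : ∀ i, HomologicalComplex.homologyMap ((F.mapHomologicalComplex (ComplexShape.up ℤ)).map π) i =
      ((K.sc i).mapHomologyIso F).hom ≫ F.map (HomologicalComplex.homologyMap π i) ≫
        ((L.sc i).mapHomologyIso F).inv := fun i => by
    rw [← Category.assoc, Iso.eq_comp_inv]
    exact ShortComplex.mapHomologyIso_hom_naturality
      ((HomologicalComplex.shortComplexFunctor A (ComplexShape.up ℤ) i).map π) F
  refine ⟨fun i hi => ?_, ?_⟩
  · refine (NatIso.isIso_map_iff (DerivedCategory.homologyFunctorFactors B i) _).2 ?_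
    show IsIso (HomologicalComplex.homologyMap _ i)
    haveI : IsIso (HomologicalComplex.homologyMap π i) :=
      (NatIso.isIso_map_iff (DerivedCategory.homologyFunctorFactors A i) π).1 (h.1 i hi)
    rw [key]
    infer_instance
  · haveI := h.2
    haveI : Epi (HomologicalComplex.homologyMap π m) := by
      have e := (DerivedCategory.homologyFunctorFactors A m).hom.naturality π
      have h' : Epi ((DerivedCategory.Q ⋙ DerivedCategory.homologyFunctor A m).map π ≫
          (DerivedCategory.homologyFunctorFactors A m).hom.app L) := @epi_comp _ _ _ _ _ _ h.2 _ inferInstance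
      exact @epi_of_epi_fac _ _ _ _ _ _ _ _ h' e.symm
    rw [show (DerivedCategory.homologyFunctor B m).map (DerivedCategory.Q.map
        ((F.mapHomologicalComplex (ComplexShape.up ℤ)).map π)) =
      (DerivedCategory.homologyFunctorFactors B m).hom.app _ ≫
        HomologicalComplex.homologyMap ((F.mapHomologicalComplex (ComplexShape.up ℤ)).map π) m ≫
          (DerivedCategory.homologyFunctorFactors B m).inv.app _ from
      (NatIso.naturality_1 (DerivedCategory.homologyFunctorFactors B m).symm _).symm, key]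
    infer_instance

/-- Restricting three times. -/
noncomputable def restrictCompIso₃ {A B C D : Scheme.{u}} (σ : A ⟶ B) (j : B ⟶ C) (k : C ⟶ D) (l : A ⟶ D)
    [IsOpenImmersion σ] [IsOpenImmersion j] [IsOpenImmersion k] [IsOpenImmersion l] (h : σ ≫ j ≫ k = l) :
    (Scheme.Modules.restrictFunctor k ⋙ Scheme.Modules.restrictFunctor j) ⋙ Scheme.Modules.restrictFunctor σ ≅
      Scheme.Modules.restrictFunctor l :=
  Functor.isoWhiskerRight (Scheme.Modules.restrictFunctorComp j k).symm _ ≪≫
    (Scheme.Modules.restrictFunctorComp σ (j ≫ k)).symm ≪≫ Scheme.Modules.restrictFunctorCongr h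

/-- The functor at `x`, through the cokernels of a local approximation. -/
theorem exists_approx (F : CochainComplex X.Modules ℤ) (p : ℤ)
    (hE : DCoh.IsPseudoCoherentD (p - 1) (DCoh.toD X F)) {P : CochainComplex X.Modules ℤ}
    (hP : kflat X P) (eP : DCoh.toD X P ≅ DCoh.toD X F) (x : X) :
    ∃ (W : X.Opens) (S : CochainComplex (W : Scheme.{u}).Modules ℤ) (α : DCoh.toD _ S ⟶ (rd W.ι).obj (DCoh.toD X F))
      (hx : x ∈ W), DCoh.IsStrictlyPerfect S ∧ Approx (p - 1) α ∧ ∀ (y : W),
      (((CohIII.TFun (((DerSch.stalkFunctor X (W.ι.base y)).mapHomologicalComplex (ComplexShape.up ℤ)).obj P) p).PreservesMonomorphisms ↔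
          FlatMod.IsFlatAt (cokernel (S.d (p - 1) p)) y) ∧
        ((CohIII.TFun (((DerSch.stalkFunctor X (W.ι.base y)).mapHomologicalComplex (ComplexShape.up ℤ)).obj P) p).PreservesEpimorphisms ↔
          FlatMod.IsFlatAt (cokernel (S.d p (p + 1))) y) ∧
        (∀ (T : ShortComplex (ModuleCat.{u} (X.presheaf.stalk (W.ι.base y)))), T.ShortExact →
          (T.map (CohIII.TFun (((DerSch.stalkFunctor X (W.ι.base y)).mapHomologicalComplex (ComplexShape.up ℤ)).obj P) p)).Exact)) := by
  obtain ⟨V₀, hx₀, S₀, α₀, hS₀, hα₀⟩ := (isPseudoCoherentD_iff _ _).1 hE x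
  obtain ⟨W₀, π, hxW, hπ⟩ := exists_real hS₀ (α₀ ≫ (rd V₀.ι).map eP.inv ≫ (rdQ V₀.ι).hom.app P) ⟨x, hx₀⟩
  let W : X.Opens := V₀.ι ''ᵁ W₀
  let σ : (W : Scheme.{u}) ⟶ W₀ := (V₀.ι.isoImage W₀).inv
  have hσ : σ ≫ W₀.ι ≫ V₀.ι = W.ι := V₀.ι.isoImage_inv_ι W₀
  let S : CochainComplex (W : Scheme.{u}).Modules ℤ :=
    ((Scheme.Modules.restrictFunctor σ).mapHomologicalComplex (ComplexShape.up ℤ)).obj
      ((DCoh.restrictCx W₀).obj S₀)
  have hS : DCoh.IsStrictlyPerfect S := isStrictlyPerfect_rd σ (isStrictlyPerfect_rd W₀.ι hS₀)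
  have hπ' : Approx (p - 1) (DerivedCategory.Q.map π) := hπ ▸ (Approx.of_isIso _ _).comp
    (((hα₀.comp ((Approx.of_isIso _ _).comp (Approx.of_isIso _ _))).map_rd W₀.ι).comp (Approx.of_isIso _ _))
  let eW : ((Scheme.Modules.restrictFunctor σ).mapHomologicalComplex (ComplexShape.up ℤ)).obj
      ((DCoh.restrictCx W₀).obj ((DCoh.restrictCx V₀).obj P)) ≅ (DCoh.restrictCx W).obj P :=
    (NatIso.mapHomologicalComplex (restrictCompIso₃ σ W₀.ι V₀.ι W.ι hσ) (ComplexShape.up ℤ)).app P
  let π' : S ⟶ (DCoh.restrictCx W).obj P :=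
    ((Scheme.Modules.restrictFunctor σ).mapHomologicalComplex (ComplexShape.up ℤ)).map π ≫ eW.hom
  have hπW : Approx (p - 1) (DerivedCategory.Q.map π') := by
    rw [Functor.map_comp]
    exact (approx_map (Scheme.Modules.restrictFunctor σ) hπ').comp (Approx.of_isIso _ _)
  refine ⟨W, S, DerivedCategory.Q.map π' ≫ (rdQ W.ι).inv.app P ≫ (rd W.ι).map eP.hom, ⟨⟨x, hx₀⟩, hxW, rfl⟩,
    hS, hπW.comp ((Approx.of_isIso _ _).comp (Approx.of_isIso _ _)), fun y => ?_⟩
  let R := X.presheaf.stalk (W.ι.base y)
  let φ := (W.ι.stalkMap y).hom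
  have hφ : Function.Bijective φ := ConcreteCategory.bijective_of_isIso (W.ι.stalkMap y)
  let S' := (DerSch.stalkCxOver W.ι y).obj S
  let π₁ : S' ⟶ ((DerSch.stalkFunctor X (W.ι.base y)).mapHomologicalComplex (ComplexShape.up ℤ)).obj P :=
    (DerSch.stalkCxOver W.ι y).map π' ≫ (TorTest.stalkRestrictIso W.ι P y).hom
  have hflat : ∀ i, Module.Flat R (S'.X i) := fun i =>
    (flat_iff_of_bijective φ hφ ((DerSch.stalkFunctor (W : Scheme.{u}) y).obj (S.X i))).2 (isFlat_of_isFinLocFree (hS.2 i) y)
  obtain ⟨a, b, hab⟩ := hS.1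
  have hS' : KFlat.IsKFlat (bi R) S' :=
    isKFlat_of_flat (c := b) (fun i hi => (DerSch.stalkOver W.ι y).map_isZero (hab i (Or.inr hi))) hflat
  have hP' : KFlat.IsKFlat (bi R)
      (((DerSch.stalkFunctor X (W.ι.base y)).mapHomologicalComplex (ComplexShape.up ℤ)).obj P) :=
    (H25DTen.isKFlat_iff _).1 ((isKFlat_iff_stalk P).1 hP _)
  have hπ₁ : Approx (p - 1) (DerivedCategory.Q.map π₁) := by
    rw [Functor.map_comp]
    haveI : PreservesFiniteLimits (DerSch.stalkOver W.ι y) := comp_preservesFiniteLimits _ _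
    haveI : PreservesFiniteColimits (DerSch.stalkOver W.ι y) := comp_preservesFiniteColimits _ _
    exact (approx_map (DerSch.stalkOver W.ι y) hπW).comp (Approx.of_isIso _ _)
  obtain ⟨i⟩ := nonempty_TFun_iso π₁ hS' hP' hπ₁ (j := p) (by omega)
  haveI := hflat (p + 1)
  have hij : (ComplexShape.up ℤ).prev p = p - 1 := CochainComplex.prev ℤ p
  have hjk : (ComplexShape.up ℤ).next p = p + 1 := CochainComplex.next ℤ p
  refine ⟨?_, ?_, fun T hT => ShortComplex.exact_of_iso (T.mapNatIso i) (H06FlatCx.tFun_exact S' hij hjk T hT)⟩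
  · rw [← Functor.PreservesMonomorphisms.iso_iff i, H06FlatCx.preservesMono_iff_flat S' hij hjk]
    exact flat_coker_stalk_iff W.ι S (p - 1) p y
  · rw [← Functor.PreservesEpimorphisms.iso_iff i, H06FlatCx.preservesEpi_iff_flat S' hij hjk]
    exact flat_coker_stalk_iff W.ι S p (p + 1) y

end Groth.Agent.H16Derived.Exchange
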