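import Groth.Agent.H16Derived.Dual.Bifunctor
import Groth.Agent.H16Derived.Dual.PseudoQCoh
import Groth.Agent.H16Derived.KFlat.PushPull
import Groth.Agent.H16Derived.ProjFormula.Free
import Mathlib.Algebra.Homology.DerivedCategory.HomologySequence

/-!
# The exchange between degrees `p` and `p + 1` through `- ⊗^L F` and `Rf_*`
-/

set_option autoImplicit false
set_option linter.style.haveILetI false

universe u

open CategoryTheory CategoryTheory.Limits AlgebraicGeometry Pretriangulated

attribute [local instance] HasDerivedCategory.standard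

namespace Groth.Agent.H16Derived.Exchange

open Groth.Agent.H16Derived.KFlat Groth.Agent.H16Derived.KFlat.Stalk Groth.Agent.H16Derived.Dual

/-- Two commutative squares, one after applying functors. -/
theorem sq_map {C D E : Type*} [Category C] [Category D] [Category E] (L : C ⥤ D) (H : D ⥤ E)
    {a b a' b' : C} {t : a ⟶ b} {s : a' ⟶ b'} {u' : a ⟶ a'} {v : b ⟶ b'} (h1 : t ≫ v = u' ≫ s)
    {c d : D} {ea : L.obj a' ⟶ c} {eb : L.obj b' ⟶ d} {s' : c ⟶ d} (h2 : L.map s ≫ eb = ea ≫ s') :
    H.map (L.map t) ≫ H.map (L.map v) ≫ H.map eb = (H.map (L.map u') ≫ H.map ea) ≫ H.map s' := by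
  rw [← H.map_comp, ← H.map_comp, ← H.map_comp, ← H.map_comp, Category.assoc, ← h2, ← Category.assoc,
    ← Category.assoc, ← L.map_comp, ← L.map_comp, h1]

variable {X Y : Scheme.{u}} (f : X ⟶ Y) [DCoh.HasRpush f]
  (F : CochainComplex X.Modules ℤ) [DCoh.HasLTensorCx F]

/-- `K ↦ H^i(Rf_*(K ⊗^L F))`. -/
noncomputable abbrev Hpush (i : ℤ) : DCoh.D X ⥤ Y.Modules :=
  DCoh.LTensorCx F ⋙ DCoh.Rpush f ⋙ DerivedCategory.homologyFunctor Y.Modules i

/-- On a triangle: exact in the middle, and epi in degree `i` iff mono in degree `j = i + 1`. -/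
theorem exchange_triangle (T : Triangle (DCoh.D X)) (hT : T ∈ distTriang (DCoh.D X)) (i j : ℤ) (hij : i + 1 = j) :
    (∀ k, ∀ (w : (Hpush f F k).map T.mor₁ ≫ (Hpush f F k).map T.mor₂ = 0),
        (ShortComplex.mk _ _ w).Exact) ∧
      (Epi ((Hpush f F i).map T.mor₂) ↔ Mono ((Hpush f F j).map T.mor₁)) := by
  obtain ⟨P, hP, -, ⟨eP⟩⟩ := exists_rep (DerivedCategory.Q.obj F)
  let V := tot (DCoh.tensorBi (X := X)).flip P
  let e : DerivedCategory.Q ⋙ DCoh.LTensorCx F ≅ V ⋙ DerivedCategory.Q :=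
    Functor.isoWhiskerLeft DerivedCategory.Q
      ((ltensorCxIsoT F).symm ≪≫ (Dual.T X).flip.mapIso eP.symm) ≪≫ TFlipIso P hP
  obtain ⟨A, B, φ, ⟨eT⟩⟩ : ∃ (A B : CochainComplex X.Modules ℤ) (φ : A ⟶ B),
      Nonempty (T.invRotate ≅ DerivedCategory.Q.mapTriangle.obj (CochainComplex.mappingCone.triangle φ)) :=
    (DerivedCategory.mem_distTriang_iff _).1 (inv_rot_of_distTriang _ hT)
  let S := CochainComplex.mappingCone.triangleRotateShortComplex φ
  let R := (DerivedCategory.Q.mapTriangle.obj (CochainComplex.mappingCone.triangle φ)).rotate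
  let eR : T ≅ R := (invRotCompRot.app T).symm ≪≫ (rotate _).mapIso eT
  have hsplit : ∀ n, Nonempty ((S.map V).map (HomologicalComplex.eval X.Modules (ComplexShape.up ℤ) n)).Splitting :=
    fun n => ProjFormula.nonempty_splitting_tot (DCoh.tensorBi (X := X)).flip P S
      (fun p q => (CochainComplex.mappingCone.triangleRotateShortComplexSplitting φ q).map _) n
  have hSES : (S.map V).ShortExact :=
    HomologicalComplex.shortExact_of_degreewise_shortExact _ fun n => (hsplit n).some.shortExact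
  letI := rpushCommShift f
  haveI := rpush_isTriangulated f
  let K := (DCoh.Rpush f).mapTriangle.obj (DerivedCategory.triangleOfSES hSES)
  have hK : K ∈ distTriang (DCoh.D Y) :=
    (DCoh.Rpush f).map_distinguished _ (DerivedCategory.triangleOfSES_distinguished hSES)
  let H := fun k : ℤ => DCoh.Rpush f ⋙ DerivedCategory.homologyFunctor Y.Modules k
  let i₁ : ∀ k, (Hpush f F k).obj T.obj₁ ≅ (DerivedCategory.homologyFunctor Y.Modules k).obj K.obj₁ :=
    fun k => (Hpush f F k).mapIso (Triangle.π₁.mapIso eR) ≪≫ (H k).mapIso (e.app S.X₁)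
  let i₂ : ∀ k, (Hpush f F k).obj T.obj₂ ≅ (DerivedCategory.homologyFunctor Y.Modules k).obj K.obj₂ :=
    fun k => (Hpush f F k).mapIso (Triangle.π₂.mapIso eR) ≪≫ (H k).mapIso (e.app S.X₂)
  let i₃ : ∀ k, (Hpush f F k).obj T.obj₃ ≅ (DerivedCategory.homologyFunctor Y.Modules k).obj K.obj₃ :=
    fun k => (Hpush f F k).mapIso (Triangle.π₃.mapIso eR ≪≫
      ((DerivedCategory.Q.commShiftIso (1 : ℤ)).app A).symm) ≪≫ (H k).mapIso (e.app S.X₃)
  have sq₁ : ∀ k, (Hpush f F k).map T.mor₁ ≫ (i₂ k).hom =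
      (i₁ k).hom ≫ (DerivedCategory.homologyFunctor Y.Modules k).map K.mor₁ := fun k => by
    have h1 : T.mor₁ ≫ eR.hom.hom₂ = eR.hom.hom₁ ≫ DerivedCategory.Q.map S.f := eR.hom.comm₁
    have h2 : (DCoh.LTensorCx F).map (DerivedCategory.Q.map S.f) ≫ e.hom.app S.X₂ =
        e.hom.app S.X₁ ≫ DerivedCategory.Q.map (V.map S.f) := e.hom.naturality S.f
    exact sq_map (DCoh.LTensorCx F) (H k) h1 h2
  have sq₂ : ∀ k, (Hpush f F k).map T.mor₂ ≫ (i₃ k).hom =
      (i₂ k).hom ≫ (DerivedCategory.homologyFunctor Y.Modules k).map K.mor₂ := fun k => by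
    have h1 : T.mor₂ ≫ eR.hom.hom₃ ≫ ((DerivedCategory.Q.commShiftIso (1 : ℤ)).app A).inv =
        eR.hom.hom₂ ≫ DerivedCategory.Q.map S.g := by
      have h : T.mor₂ ≫ eR.hom.hom₃ = eR.hom.hom₂ ≫ (DerivedCategory.Q.map S.g ≫
          (DerivedCategory.Q.commShiftIso (1 : ℤ)).hom.app A) := eR.hom.comm₂
      exact ((Category.assoc _ _ _).symm.trans (congrArg (fun z => z ≫ _) h)).trans ((Category.assoc _ _ _).trans
        (congrArg (fun z => _ ≫ z) ((Category.assoc _ _ _).trans
          ((congrArg (fun z => DerivedCategory.Q.map S.g ≫ z) (Iso.hom_inv_id_app (DerivedCategory.Q.commShiftIso (1 : ℤ)) A)).trans (Category.comp_id _)))))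
    have h2 : (DCoh.LTensorCx F).map (DerivedCategory.Q.map S.g) ≫ e.hom.app S.X₃ =
        e.hom.app S.X₂ ≫ DerivedCategory.Q.map (V.map S.g) := e.hom.naturality S.g
    exact sq_map (DCoh.LTensorCx F) (H k) h1 h2
  constructor
  · intro k w
    exact ShortComplex.exact_of_iso (ShortComplex.isoMk (i₁ k) (i₂ k) (i₃ k) (sq₁ k).symm (sq₂ k).symm).symm
      (DerivedCategory.HomologySequence.exact₂ K hK k)
  · have h2 : Epi ((Hpush f F i).map T.mor₂) ↔ Epi ((DerivedCategory.homologyFunctor Y.Modules i).map K.mor₂) :=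
      (MorphismProperty.epimorphisms Y.Modules).arrow_mk_iso_iff (Arrow.isoMk (i₂ i) (i₃ i) (sq₂ i).symm)
    have h1 : Mono ((Hpush f F j).map T.mor₁) ↔ Mono ((DerivedCategory.homologyFunctor Y.Modules j).map K.mor₁) :=
      (MorphismProperty.monomorphisms Y.Modules).arrow_mk_iso_iff (Arrow.isoMk (i₁ j) (i₂ j) (sq₁ j).symm)
    rw [h2, h1, DerivedCategory.HomologySequence.epi_homologyMap_mor₂_iff K hK i j hij,
      DerivedCategory.HomologySequence.mono_homologyMap_mor₁_iff K hK i j hij]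

/-- Right exactness in degree `i` is left exactness in degree `i + 1`. -/
theorem rightExact_iff_leftExact_succ_push [DCoh.HasLpull f] {A : Type*} [Category A] [Abelian A]
    (ι : A ⥤ Y.Modules) [ι.Additive] [PreservesFiniteLimits ι] [PreservesFiniteColimits ι] (i j : ℤ) (hij : i + 1 = j) :
    PreservesFiniteColimits (ι ⋙ DerivedCategory.singleFunctor Y.Modules 0 ⋙ DCoh.Lpull f ⋙ Hpush f F i) ↔
      PreservesFiniteLimits (ι ⋙ DerivedCategory.singleFunctor Y.Modules 0 ⋙ DCoh.Lpull f ⋙ Hpush f F j) := by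
  letI := lpullCommShift f
  haveI := lpull_isTriangulated f
  letI := rpushCommShift f
  haveI := rpush_isTriangulated f
  have hadd : ∀ k, (Hpush f F k).Additive := fun k => by
    haveI : (DCoh.LTensorCx F).Additive := by
      haveI : ((Dual.T X).flip.obj (DerivedCategory.Q.obj F)).Additive := Functor.additive_of_preserves_binary_products _
      exact Functor.additive_of_iso (ltensorCxIsoT F)
    infer_instance
  haveI := hadd i
  haveI := hadd j
  rw [Functor.preservesFiniteColimits_iff_forall_exact_map_and_epi,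
    Functor.preservesFiniteLimits_iff_forall_exact_map_and_mono]
  refine forall_congr' fun S => imp_congr_right fun hS => ?_
  have hS' : (S.map ι).ShortExact := hS.map_of_exact ι
  obtain ⟨hmid, hiff⟩ := exchange_triangle f F ((DCoh.Lpull f).mapTriangle.obj hS'.singleTriangle)
    ((DCoh.Lpull f).map_distinguished _ hS'.singleTriangle_distinguished) i j hij
  exact ⟨fun h => ⟨hmid j _, hiff.1 h.2⟩, fun h => ⟨hmid i _, hiff.2 h.2⟩⟩

end Groth.Agent.H16Derived.Exchange
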