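import Groth.Agent.H16Derived.Exchange.Criterion
import Groth.Agent.H16Derived.KFlat.PerfCoh
import Groth.Agent.H10Coh.AffineAmple
import Groth.Agent.H17.QCohCat.Groth

/-!
# Exactness of `M ↦ H^p(M ⊗^L F)` and local freeness of `H^p(F)`
-/

set_option autoImplicit false
set_option linter.style.haveILetI false
set_option backward.isDefEq.respectTransparency false

universe u

open CategoryTheory CategoryTheory.Limits AlgebraicGeometry MonoidalCategory
open scoped ZeroObject

attribute [local instance] HasDerivedCategory.standard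

namespace Groth.Agent.H16Derived.Exchange

open Groth.Agent.H16Derived.KFlat Groth.Agent.H16Derived.KFlat.Stalk

variable {X : Scheme.{u}}

instance {A B C : Type*} [Category A] [Category B] [Category C] [Preadditive A] [Preadditive B]
    [Preadditive C] (F : A ⥤ B ⥤ C) [F.Additive] [∀ a, (F.obj a).Additive] (P : CochainComplex B ℤ) :
    (tensCx F P).Additive where
  map_add {a b φ ψ} := by
    ext i
    simp

/-- The functor at `x`, recovered from the quasi-coherent modules `spread x M`. -/
noncomputable def spreadΦIso (P : CochainComplex X.Modules ℤ) (p : ℤ) (x : X) :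
    spreadF x ⋙ Φ P p ⋙ DerSch.stalkFunctor X x ≅ CohIII.TFun ((TorTest.Sx x).obj P) p :=
  Functor.isoWhiskerLeft _ (stalkΦIso x P p) ≪≫ (Functor.associator _ _ _).symm ≪≫
    Functor.isoWhiskerRight (spreadStalkNatIso x) _ ≪≫ Functor.leftUnitor _

theorem mono_congr {A B : Type*} [Category A] [Category B] {F G : A ⥤ B} (e : F ≅ G) {a b : A} (f : a ⟶ b) :
    (Mono (F.map f) ↔ Mono (G.map f)) ∧ (Epi (F.map f) ↔ Epi (G.map f)) := by
  have h1 : G.map f = e.inv.app a ≫ F.map f ≫ e.hom.app b := (NatIso.naturality_1 e f).symm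
  have h2 : F.map f = e.hom.app a ≫ G.map f ≫ e.inv.app b := (NatIso.naturality_2 e f).symm
  exact ⟨⟨fun h => h1 ▸ inferInstance, fun h => h2 ▸ inferInstance⟩,
    ⟨fun h => h1 ▸ inferInstance, fun h => h2 ▸ inferInstance⟩⟩

section Spread

variable (P : CochainComplex X.Modules ℤ) (p : ℤ) (x : X) (Q : X.Modules → Prop)
  (hs : ∀ M, Q ((spreadF x).obj M)) (hi : ∀ {A B : X.Modules} (f : A ⟶ B), Q A → Q B → Q (Abelian.image f))

include hs hi in
/-- Monomorphisms are preserved at `x` if they are preserved between the test modules. -/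
theorem preservesMono_tfun
    (h : ∀ {A B : X.Modules} (f : A ⟶ B), Q A → Q B → Mono f → Mono ((Φ P p ⋙ DerSch.stalkFunctor X x).map f)) :
    (CohIII.TFun ((TorTest.Sx x).obj P) p).PreservesMonomorphisms := by
  refine ⟨fun {M N} φ _ => ((mono_congr (spreadΦIso P p x) φ).1).1 ?_⟩
  let f := (spreadF x).map φ
  show Mono ((Φ P p ⋙ DerSch.stalkFunctor X x).map f)
  haveI : Mono ((spreadF x ⋙ DerSch.stalkFunctor X x).map φ) :=
    ((mono_congr (spreadStalkNatIso x) φ).1).2 ‹Mono φ›
  haveI : Mono ((DerSch.stalkFunctor X x).map (Abelian.factorThruImage f) ≫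
      (DerSch.stalkFunctor X x).map (Abelian.image.ι f)) := by
    rw [← Functor.map_comp, Abelian.image.fac]; assumption
  haveI : Mono ((DerSch.stalkFunctor X x).map (Abelian.factorThruImage f)) :=
    mono_of_mono _ ((DerSch.stalkFunctor X x).map (Abelian.image.ι f))
  haveI : IsIso ((DerSch.stalkFunctor X x).map (Abelian.factorThruImage f)) := isIso_of_mono_of_epi _
  haveI : Mono ((Φ P p ⋙ DerSch.stalkFunctor X x).map (Abelian.factorThruImage f)) := by
    refine ((mono_congr (stalkΦIso x P p) _).1).2 ?_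
    show Mono ((CohIII.TFun _ p).map ((DerSch.stalkFunctor X x).map _))
    infer_instance
  haveI := h (Abelian.image.ι f) (hi f (hs M) (hs N)) (hs N) inferInstance
  rw [← Abelian.image.fac f, Functor.map_comp]
  exact mono_comp _ _

include hs hi in
/-- Epimorphisms are preserved at `x` if they are preserved between the test modules. -/
theorem preservesEpi_tfun
    (h : ∀ {A B : X.Modules} (f : A ⟶ B), Q A → Q B → Epi f → Epi ((Φ P p ⋙ DerSch.stalkFunctor X x).map f)) :
    (CohIII.TFun ((TorTest.Sx x).obj P) p).PreservesEpimorphisms := by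
  refine ⟨fun {M N} φ _ => ((mono_congr (spreadΦIso P p x) φ).2).1 ?_⟩
  let f := (spreadF x).map φ
  show Epi ((Φ P p ⋙ DerSch.stalkFunctor X x).map f)
  haveI : Epi ((spreadF x ⋙ DerSch.stalkFunctor X x).map φ) :=
    ((mono_congr (spreadStalkNatIso x) φ).2).2 ‹Epi φ›
  haveI : Epi ((DerSch.stalkFunctor X x).map (Abelian.factorThruImage f) ≫
      (DerSch.stalkFunctor X x).map (Abelian.image.ι f)) := by
    rw [← Functor.map_comp, Abelian.image.fac]; assumption
  haveI : Epi ((DerSch.stalkFunctor X x).map (Abelian.image.ι f)) :=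
    epi_of_epi ((DerSch.stalkFunctor X x).map (Abelian.factorThruImage f)) _
  haveI : IsIso ((DerSch.stalkFunctor X x).map (Abelian.image.ι f)) := isIso_of_mono_of_epi _
  haveI : Epi ((Φ P p ⋙ DerSch.stalkFunctor X x).map (Abelian.image.ι f)) := by
    refine ((mono_congr (stalkΦIso x P p) _).2).2 ?_
    show Epi ((CohIII.TFun _ p).map ((DerSch.stalkFunctor X x).map _))
    infer_instance
  haveI := h (Abelian.factorThruImage f) (hs M) (hi f (hs M) (hs N)) inferInstance
  rw [← Abelian.image.fac f, Functor.map_comp]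
  exact epi_comp _ _

end Spread

/-- The cohomology of a three-term complex with locally free terms and flat cokernels. -/
theorem isFinLocFree_homology (S : CochainComplex X.Modules ℤ) (i j k : ℤ) (hij : i + 1 = j) (hjk : j + 1 = k)
    (h₁ : FlatMod.IsFinLocFree (cokernel (S.d i j))) (h₂ : FlatMod.IsFinLocFree (cokernel (S.d j k)))
    (hk : FlatMod.IsFinLocFree (S.X k)) : FlatMod.IsFinLocFree (S.homology j) := by
  let d : cokernel (S.d i j) ⟶ S.X k := cokernel.desc _ (S.d j k) (S.d_comp_d _ _ _)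
  have hw : d ≫ cokernel.π (S.d j k) = 0 := by
    rw [← cancel_epi (cokernel.π (S.d i j)), cokernel.π_desc_assoc, cokernel.condition, comp_zero]
  let l : cokernel (S.d i j) ⟶ Abelian.image (S.d j k) := kernel.lift _ d hw
  have hl : cokernel.π (S.d i j) ≫ l = Abelian.factorThruImage (S.d j k) := by
    refine (cancel_mono (kernel.ι _)).1 ?_
    simp [l, d]
  haveI : Epi l := epi_of_epi_fac hl
  have hK : FlatMod.IsFinLocFree (Abelian.image (S.d j k)) :=
    H10Coh.Tw.isFinLocFree_kernel (cokernel.π (S.d j k)) hk h₂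
  have hH : FlatMod.IsFinLocFree (kernel l) := H10Coh.Tw.isFinLocFree_kernel l h₁ hK
  have e₁ : kernel d ≅ kernel l := kernelIsoOfEq (kernel.lift_ι _ _ hw).symm ≪≫ kernelCompMono l _
  refine isFinLocFree_of_iso (e₁.symm ≪≫ ?_ ≪≫
    (S.homologyIsoSc' i j k (by simp [← hij]) (by simp [← hjk])).symm) hH
  exact (ShortComplex.RightHomologyData.ofHasCokernelOfHasKernel (S.sc' i j k)).homologyIso.symm

variable (F : CochainComplex X.Modules ℤ) (p : ℤ)

/-- The functor is exact in the middle. -/
theorem exact_map_Φ (hE : DCoh.IsPseudoCoherentD (p - 1) (DCoh.toD X F)) {P : CochainComplex X.Modules ℤ}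
    (hP : kflat X P) (eP : DCoh.toD X P ≅ DCoh.toD X F) (T : ShortComplex X.Modules) (hT : T.ShortExact) :
    (T.map (Φ P p)).Exact := by
  refine (exact_iff _).2 fun x => ?_
  obtain ⟨W, S, α, hx, -, -, h⟩ := exists_approx F p hE hP eP x
  have h' := (h ⟨x, hx⟩).2.2 (T.map (DerSch.stalkFunctor X x)) (hT.map_of_exact _)
  exact ShortComplex.exact_of_iso (T.mapNatIso (stalkΦIso x P p)).symm h'

/-- Exactness at every point gives exactness. -/
theorem preserves_of_tfun [DCoh.HasLTensorCx F] (hE : DCoh.IsPseudoCoherentD (p - 1) (DCoh.toD X F))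
    {P : CochainComplex X.Modules ℤ} (hP : kflat X P) (eP : DCoh.toD X P ≅ DCoh.toD X F)
    (h : ∀ x : X, (CohIII.TFun ((TorTest.Sx x).obj P) p).PreservesMonomorphisms ∧
      (CohIII.TFun ((TorTest.Sx x).obj P) p).PreservesEpimorphisms) :
    PreservesFiniteLimits (Gfun F p) ∧ PreservesFiniteColimits (Gfun F p) := by
  have hm : ∀ {A B : X.Modules} (f : A ⟶ B), Mono f → Mono ((Φ P p).map f) := fun f hf => by
    have h0 : ∀ x, Mono ((DerSch.stalkFunctor X x).map ((Φ P p).map f)) := fun x => by
      haveI := (h x).1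
      exact ((mono_congr (stalkΦIso x P p) f).1).2
        (inferInstanceAs (Mono ((CohIII.TFun _ p).map ((DerSch.stalkFunctor X x).map f))))
    have h1 : (ShortComplex.mk (0 : (0 : X.Modules) ⟶ _) ((Φ P p).map f) zero_comp).Exact :=
      (exact_iff _).2 fun x => by
        have : Mono ((DerSch.stalkFunctor X x).map ((Φ P p).map f)) := h0 x
        exact (ShortComplex.exact_iff_mono _ ((DerSch.stalkFunctor X x).map_zero _ _)).2 this
    exact (ShortComplex.exact_iff_mono _ rfl).1 h1
  have he : ∀ {A B : X.Modules} (f : A ⟶ B), Epi f → Epi ((Φ P p).map f) := fun f hf => by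
    have h0 : ∀ x, Epi ((DerSch.stalkFunctor X x).map ((Φ P p).map f)) := fun x => by
      haveI := (h x).2
      exact ((mono_congr (stalkΦIso x P p) f).2).2
        (inferInstanceAs (Epi ((CohIII.TFun _ p).map ((DerSch.stalkFunctor X x).map f))))
    have h1 : (ShortComplex.mk ((Φ P p).map f) (0 : _ ⟶ (0 : X.Modules)) comp_zero).Exact :=
      (exact_iff _).2 fun x => by
        have : Epi ((DerSch.stalkFunctor X x).map ((Φ P p).map f)) := h0 x
        exact (ShortComplex.exact_iff_epi _ ((DerSch.stalkFunctor X x).map_zero _ _)).2 this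
    exact (ShortComplex.exact_iff_epi _ rfl).1 h1
  haveI : PreservesFiniteLimits (Φ P p) := (Functor.preservesFiniteLimits_iff_forall_exact_map_and_mono _).2
    fun T hT => ⟨exact_map_Φ F p hE hP eP T hT, hm T.f hT.mono_f⟩
  haveI : PreservesFiniteColimits (Φ P p) := (Functor.preservesFiniteColimits_iff_forall_exact_map_and_epi _).2
    fun T hT => ⟨exact_map_Φ F p hE hP eP T hT, he T.g hT.epi_g⟩
  exact ⟨preservesFiniteLimits_of_natIso (gfunIso F p hP eP).symm,
    preservesFiniteColimits_of_natIso (gfunIso F p hP eP).symm⟩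

/-- Exactness at every point makes `H^p(F)` locally free and the Betti number locally constant. -/
theorem locFree_of_tfun [∀ x : X, DCoh.HasLpull (X.fromSpecResidueField x)]
    (hE : DCoh.IsPseudoCoherentD (p - 1) (DCoh.toD X F))
    {P : CochainComplex X.Modules ℤ} (hP : kflat X P) (eP : DCoh.toD X P ≅ DCoh.toD X F)
    (h : ∀ x : X, (CohIII.TFun ((TorTest.Sx x).obj P) p).PreservesMonomorphisms ∧
      (CohIII.TFun ((TorTest.Sx x).obj P) p).PreservesEpimorphisms) :
    FlatMod.IsFinLocFree (DCoh.HD (DCoh.toD X F) p) ∧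
      IsLocallyConstant (fun x : X => PerfD.betti (DCoh.toD X F) x p) := by
  have key : ∀ x : X, ∃ (W : X.Opens), x ∈ W ∧
      FlatMod.IsFinLocFree ((Scheme.Modules.restrictFunctor W.ι).obj (DCoh.HD (DCoh.toD X F) p)) ∧
      ∀ᶠ y in nhds x, PerfD.betti (DCoh.toD X F) y p = PerfD.betti (DCoh.toD X F) x p := fun x => by
    obtain ⟨W, S, α, hx, hS, hα, hy⟩ := exists_approx F p hE hP eP x
    have hfree : ∀ a b : ℤ, (∀ y : W, FlatMod.IsFlatAt (cokernel (S.d a b)) y) →
        FlatMod.IsFinLocFree (cokernel (S.d a b)) := fun a b hf =>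
      isFinLocFree_of_isFP_flat (H06EGA11.isFP_cokernel (H8Props.FinLocFree.isFP_of_isFinLocFree _ (hS.2 b))
        (H8Props.FinLocFree.isFP_of_isFinLocFree _ (hS.2 a)) (S.d a b)) hf
    have h₁ : FlatMod.IsFinLocFree (cokernel (S.d (p - 1) p)) :=
      hfree _ _ fun y => (hy y).1.1 (h _).1
    have h₂ : FlatMod.IsFinLocFree (cokernel (S.d p (p + 1))) :=
      hfree _ _ fun y => (hy y).2.1.1 (h _).2
    refine ⟨W, hx, ?_, ?_⟩
    · haveI := hα.1 p (by omega)
      exact isFinLocFree_of_iso (((DerivedCategory.homologyFunctorFactors _ p).app S).symm ≪≫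
        @asIso _ _ _ _ ((DerivedCategory.homologyFunctor _ p).map α) (hα.1 p (by omega)) ≪≫
        homologyRdIso W.ι (DCoh.toD X F) p)
        (isFinLocFree_homology S (p - 1) p (p + 1) (by omega) rfl h₁ h₂ (hS.2 _))
    · have e1 := eventually_rfd_eq _ h₁ ⟨x, hx⟩
      have e2 := eventually_rfd_eq _ h₂ ⟨x, hx⟩
      have e3 := eventually_rfd_eq _ (hS.2 (p + 1)) ⟨x, hx⟩
      refine Filter.mem_of_superset (W.ι.isOpenEmbedding.isOpenMap.image_mem_nhds ((e1.and e2).and e3)) ?_
      rintro _ ⟨y, ⟨⟨e1, e2⟩, e3⟩, rfl⟩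
      have a1 := betti_formula (DCoh.toD X F) W S hS α (p - 1) hα y p (by omega)
      have a2 := betti_formula (DCoh.toD X F) W S hS α (p - 1) hα ⟨x, hx⟩ p (by omega)
      show PerfD.betti _ (W.ι.base y) p = PerfD.betti _ (W.ι.base ⟨x, hx⟩) p
      omega
  refine ⟨isFinLocFree_of_local fun x => ?_, (IsLocallyConstant.iff_eventually_eq _).2 fun x => ?_⟩
  · obtain ⟨W, hx, hW, -⟩ := key x
    exact ⟨W, W.ι, inferInstance, ⟨⟨x, hx⟩, rfl⟩, hW⟩
  · obtain ⟨W, hx, -, hW⟩ := key x
    exact hW

end Groth.Agent.H16Derived.Exchange
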