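import Groth.Agent.H16Derived.TorTest.QCohTest
import Groth.Agent.H16Derived.Dual.Bifunctor
import Groth.Agent.H16Derived.KFlat.Single
import Groth.Agent.H06FlatCx.Artinian
import Groth.Agent.H06FlatCx.Translate
import Mathlib.CategoryTheory.Functor.ReflectsIso.Basic

/-!
# The functors `M ↦ H^p(M ⊗^L F)` through the stalks
-/

set_option autoImplicit false
set_option linter.style.haveILetI false
set_option backward.isDefEq.respectTransparency false

universe u

open CategoryTheory CategoryTheory.Limits AlgebraicGeometry MonoidalCategory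

attribute [local instance] HasDerivedCategory.standard

namespace Groth.Agent.H16Derived.Exchange

open Groth.Agent.H16Derived.KFlat Groth.Agent.H16Derived.KFlat.Stalk

section Bifunctor

variable {A B C : Type*} [Category A] [Category B] [Category C] [Preadditive B] [Preadditive C]
  (F : A ⥤ B ⥤ C) [∀ a, (F.obj a).Additive] (P : CochainComplex B ℤ)

/-- `a ↦ F(a, P)`. -/
@[simps]
noncomputable def tensCx : A ⥤ CochainComplex C ℤ where
  obj a := ((F.obj a).mapHomologicalComplex (ComplexShape.up ℤ)).obj P
  map φ := (NatTrans.mapHomologicalComplex (F.map φ) (ComplexShape.up ℤ)).app P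
  map_id a := by ext i; simp
  map_comp φ ψ := by ext i; simp

end Bifunctor

variable {X : Scheme.{u}}

/-- The single complex in the first slot. -/
noncomputable def singleTensIso (P : CochainComplex X.Modules ℤ) :
    tensCx (DCoh.tensorBi (X := X)) P ≅ CochainComplex.singleFunctor X.Modules 0 ⋙ (DCoh.tensorCx (X := X)).flip.obj P :=
  (NatIso.ofComponents (fun M =>
    ((NatIso.mapHomologicalComplex ((DCoh.tensorBi (X := X)).mapIso
        (HomologicalComplex.singleObjXSelf (ComplexShape.up ℤ) 0 M)) (ComplexShape.up ℤ)).app P).symm ≪≫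
      singleLeftIso (DCoh.tensorBi (X := X)) ((CochainComplex.singleFunctor X.Modules 0).obj M) P
        (fun q hq => HomologicalComplex.isZero_single_obj_X _ _ _ _ hq))
    (fun {M N} φ => by
      refine HomologicalComplex.hom_ext _ _ fun q => ?_
      have h1 : ((DCoh.tensorBi (X := X)).map φ).app (P.X q) ≫
          ((DCoh.tensorBi (X := X)).map (HomologicalComplex.singleObjXSelf (ComplexShape.up ℤ) 0 N).inv).app (P.X q) =
          ((DCoh.tensorBi (X := X)).map (HomologicalComplex.singleObjXSelf (ComplexShape.up ℤ) 0 M).inv).app (P.X q) ≫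
            ((DCoh.tensorBi (X := X)).map (((CochainComplex.singleFunctor X.Modules 0).map φ).f 0)).app (P.X q) := by
        rw [← NatTrans.comp_app, ← NatTrans.comp_app, ← Functor.map_comp, ← Functor.map_comp]
        congr 2
      have h2 := HomologicalComplex.ι_mapBifunctorMap ((CochainComplex.singleFunctor X.Modules 0).map φ)
        (𝟙 P) (DCoh.tensorBi (X := X)) (ComplexShape.up ℤ) 0 q q (zero_add q)
      simp only [HomologicalComplex.id_f, CategoryTheory.Functor.map_id, Category.id_comp] at h2
      show ((DCoh.tensorBi (X := X)).map φ).app (P.X q) ≫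
          (((DCoh.tensorBi (X := X)).map (HomologicalComplex.singleObjXSelf (ComplexShape.up ℤ) 0 N).inv).app (P.X q) ≫
            HomologicalComplex.ιMapBifunctor _ P _ (ComplexShape.up ℤ) 0 q q (zero_add q)) =
        (((DCoh.tensorBi (X := X)).map (HomologicalComplex.singleObjXSelf (ComplexShape.up ℤ) 0 M).inv).app (P.X q) ≫
            HomologicalComplex.ιMapBifunctor _ P _ (ComplexShape.up ℤ) 0 q q (zero_add q)) ≫
          (HomologicalComplex.mapBifunctorMap ((CochainComplex.singleFunctor X.Modules 0).map φ) (𝟙 P)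
            (DCoh.tensorBi (X := X)) (ComplexShape.up ℤ)).f q
      exact (((Category.assoc _ _ _).trans (congrArg (fun z => _ ≫ z) h2)).trans ((Category.assoc _ _ _).symm.trans ((congrArg (fun z => z ≫ _) h1.symm).trans (Category.assoc _ _ _)))).symm))

/-- `M ↦ H^p(M ⊗ P)`. -/
noncomputable abbrev Φ (P : CochainComplex X.Modules ℤ) (p : ℤ) : X.Modules ⥤ X.Modules :=
  tensCx (DCoh.tensorBi (X := X)) P ⋙ HomologicalComplex.homologyFunctor X.Modules (ComplexShape.up ℤ) p

/-- `M ↦ H^p(M ⊗^L F)`. -/
noncomputable abbrev Gfun (F : CochainComplex X.Modules ℤ) [DCoh.HasLTensorCx F] (p : ℤ) : X.Modules ⥤ X.Modules :=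
  DerivedCategory.singleFunctor X.Modules 0 ⋙ DCoh.LTensorCx F ⋙ DerivedCategory.homologyFunctor X.Modules p

/-- The functor on a resolved representative. -/
noncomputable def gfunIso (F : CochainComplex X.Modules ℤ) [DCoh.HasLTensorCx F] (p : ℤ)
    {P : CochainComplex X.Modules ℤ} (hP : kflat X P) (e : DCoh.toD X P ≅ DCoh.toD X F) :
    Gfun F p ≅ Φ P p :=
  Functor.isoWhiskerRight (DerivedCategory.singleFunctorIsoCompQ X.Modules 0) _ ≪≫
    Functor.associator _ _ _ ≪≫
    Functor.isoWhiskerLeft (CochainComplex.singleFunctor X.Modules 0)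
      ((Functor.associator _ _ _).symm ≪≫ Functor.isoWhiskerRight
        (Functor.isoWhiskerLeft DerivedCategory.Q
            ((Dual.ltensorCxIsoT F).symm ≪≫ (Dual.T X).flip.mapIso e.symm) ≪≫
          Dual.TFlipIso P hP ≪≫ Functor.isoWhiskerRight (tensorCxFlipIso P) DerivedCategory.Q) _ ≪≫
        Functor.associator _ _ _ ≪≫
        Functor.isoWhiskerLeft _ (DerivedCategory.homologyFunctorFactors X.Modules p)) ≪≫
    (Functor.associator _ _ _).symm ≪≫
    Functor.isoWhiskerRight (singleTensIso P).symm _

variable (x : X)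

/-- The stalks of `M ⊗ P`. -/
noncomputable def stalkTensIso (P : CochainComplex X.Modules ℤ) :
    tensCx (DCoh.tensorBi (X := X)) P ⋙ (DerSch.stalkFunctor X x).mapHomologicalComplex (ComplexShape.up ℤ) ≅
      DerSch.stalkFunctor X x ⋙ tensCx (curriedTensor (ModuleCat.{u} (X.presheaf.stalk x)))
        (((DerSch.stalkFunctor X x).mapHomologicalComplex (ComplexShape.up ℤ)).obj P) :=
  NatIso.ofComponents (fun M => HomologicalComplex.Hom.isoOfComponents
      (fun q => (leftIso M x).app (P.X q))
      (fun q r _ => ((leftIso M x).hom.naturality (P.d q r)).symm))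
    (fun {M N} φ => by
      refine HomologicalComplex.hom_ext _ _ fun q => ?_
      exact (rightIso (P.X q) x).hom.naturality φ)

/-- `M ⊗ -` and `- ⊗ M`. -/
noncomputable def tensBraidIso {R : Type u} [CommRing R] (P : CochainComplex (ModuleCat.{u} R) ℤ) (p : ℤ) :
    tensCx (curriedTensor (ModuleCat.{u} R)) P ⋙
        HomologicalComplex.homologyFunctor (ModuleCat.{u} R) (ComplexShape.up ℤ) p ≅
      CohIII.TFun P p :=
  NatIso.ofComponents (fun N => (HomologicalComplex.homologyFunctor (ModuleCat.{u} R) (ComplexShape.up ℤ) p).mapIso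
      (HomologicalComplex.Hom.isoOfComponents (fun q => β_ N (P.X q))
        (fun q r _ => (BraidedCategory.braiding_naturality_right N (P.d q r)).symm)))
    (fun {M N} φ => by
      show _ ≫ HomologicalComplex.homologyMap _ p = HomologicalComplex.homologyMap _ p ≫
        HomologicalComplex.homologyMap _ p
      erw [← HomologicalComplex.homologyMap_comp, ← HomologicalComplex.homologyMap_comp]
      congr 1
      refine HomologicalComplex.hom_ext _ _ fun q => ?_
      exact BraidedCategory.braiding_naturality_left φ (P.X q))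

/-- Homology commutes with stalks. -/
noncomputable def stalkHomologyIso (p : ℤ) :
    (DerSch.stalkFunctor X x).mapHomologicalComplex (ComplexShape.up ℤ) ⋙
        HomologicalComplex.homologyFunctor (ModuleCat.{u} (X.presheaf.stalk x)) (ComplexShape.up ℤ) p ≅
      HomologicalComplex.homologyFunctor X.Modules (ComplexShape.up ℤ) p ⋙ DerSch.stalkFunctor X x :=
  NatIso.ofComponents (fun K => (K.sc p).mapHomologyIso (DerSch.stalkFunctor X x))
    (fun φ => ShortComplex.mapHomologyIso_hom_naturality
      ((HomologicalComplex.shortComplexFunctor X.Modules (ComplexShape.up ℤ) p).map φ) (DerSch.stalkFunctor X x))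

/-- The stalk of the functor. -/
noncomputable def stalkΦIso (P : CochainComplex X.Modules ℤ) (p : ℤ) :
    Φ P p ⋙ DerSch.stalkFunctor X x ≅ DerSch.stalkFunctor X x ⋙
      CohIII.TFun (((DerSch.stalkFunctor X x).mapHomologicalComplex (ComplexShape.up ℤ)).obj P) p :=
  Functor.associator _ _ _ ≪≫ Functor.isoWhiskerLeft _ (stalkHomologyIso x p).symm ≪≫
    (Functor.associator _ _ _).symm ≪≫ Functor.isoWhiskerRight (stalkTensIso x P) _ ≪≫
    Functor.associator _ _ _ ≪≫ Functor.isoWhiskerLeft _ (tensBraidIso _ p)

/-- `spread`, as a functor. -/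
noncomputable abbrev spreadF : ModuleCat.{u} (X.presheaf.stalk x) ⥤ X.Modules :=
  tilde.functor (X.presheaf.stalk x) ⋙ Scheme.Modules.pushforward (X.fromSpecStalk x)

/-- The stalk of `spread` is the identity. -/
noncomputable def spreadStalkNatIso :
    spreadF x ⋙ DerSch.stalkFunctor X x ≅ 𝟭 (ModuleCat.{u} (X.presheaf.stalk x)) :=
  (NatIso.ofComponents (fun M => (TorTest.spreadStalkIso x M).symm) (fun {M N} φ => by
    refine ModuleCat.hom_ext (LinearMap.ext fun m => ?_)
    show TorTest.toStalk x N (φ.hom m) =
      (DerSch.stalkFunctor X x).map ((spreadF x).map φ) ((TorTest.spread x M).presheaf.germ ⊤ x trivial (TorTest.topS x M m))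
    erw [DerSch.stalkFunctor_map_germ]
    refine congrArg ((TorTest.spread x N).presheaf.germ ⊤ x trivial) ?_
    show (tilde.toOpen N ⊤).hom (φ.hom m) = _
    exact congr(($(tilde.toOpen_map_app φ ⊤)).hom m).symm)).symm

end Groth.Agent.H16Derived.Exchange
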