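import Groth.Agent.H16Derived.DerComp.SiteTensor
import Mathlib.Algebra.Homology.HomologySequence
import Mathlib.Algebra.Homology.ShortComplex.ExactFunctor

/-!
# `M ↦ H^p(M ⊗^L E)` on a ringed site, and the exchange between `p` and `p + 1`
-/

set_option autoImplicit false
set_option linter.style.haveILetI false

universe u

open CategoryTheory CategoryTheory.Limits

namespace Groth.Agent.H16Derived.Exchange

section Delta

variable {A B : Type*} [Category A] [Abelian A] [Category B] [Abelian B]
  (G : A ⥤ CochainComplex B ℤ) [G.Additive]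

/-- `H^i ∘ G` is right exact iff `H^{i+1} ∘ G` is left exact, for an exact `G`. -/
theorem rightExact_iff_leftExact_succ (hG : ∀ S : ShortComplex A, S.ShortExact → (S.map G).ShortExact)
    (i j : ℤ) (hij : i + 1 = j) :
    PreservesFiniteColimits (G ⋙ HomologicalComplex.homologyFunctor B (ComplexShape.up ℤ) i) ↔
      PreservesFiniteLimits (G ⋙ HomologicalComplex.homologyFunctor B (ComplexShape.up ℤ) j) := by
  have hr : (ComplexShape.up ℤ).Rel i j := hij
  rw [Functor.preservesFiniteColimits_iff_forall_exact_map_and_epi,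
    Functor.preservesFiniteLimits_iff_forall_exact_map_and_mono]
  refine forall_congr' fun S => imp_congr_right fun hS => ?_
  have h := hG S hS
  have hδ₁ : Epi (HomologicalComplex.homologyMap (G.map S.g) i) ↔ h.δ i j hr = 0 :=
    ((h.homology_exact₃ i j hr).epi_f_iff)
  have hδ₂ : Mono (HomologicalComplex.homologyMap (G.map S.f) j) ↔ h.δ i j hr = 0 :=
    ((h.homology_exact₁ i j hr).mono_g_iff)
  exact ⟨fun h' => ⟨h.homology_exact₂ j, hδ₂.2 (hδ₁.1 h'.2)⟩,
    fun h' => ⟨h.homology_exact₂ i, hδ₁.2 (hδ₂.1 h'.2)⟩⟩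

end Delta

section Site

open H15Site H15Site.ModTensor H15Site.ModKFlat DerCompLib

attribute [local instance] HasDerivedCategory.standard
attribute [local instance 10000] SiteInst.hasSheafifySite SiteInst.hasWeakSheafifySite

variable {C : Type u} [SmallCategory C] {J : GrothendieckTopology C} {O : Sheaf J CommRingCat.{u}}

/-- `M ↦ M ⊗ P`. -/
noncomputable def siteTens (P : CochainComplex (ModSite.Mod O) ℤ) :
    ModSite.Mod O ⥤ CochainComplex (ModSite.Mod O) ℤ where
  obj M := (((ModSite.tensorBi O).obj M).mapHomologicalComplex (ComplexShape.up ℤ)).obj P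
  map φ := (NatTrans.mapHomologicalComplex ((ModSite.tensorBi O).map φ) (ComplexShape.up ℤ)).app P
  map_id M := HomologicalComplex.hom_ext _ _ fun i =>
    NatTrans.congr_app ((ModSite.tensorBi O).map_id M) (P.X i)
  map_comp φ ψ := HomologicalComplex.hom_ext _ _ fun i =>
    NatTrans.congr_app ((ModSite.tensorBi O).map_comp φ ψ) (P.X i)

instance (P : CochainComplex (ModSite.Mod O) ℤ) : (siteTens P).Additive where
  map_add {a b φ ψ} := by
    refine HomologicalComplex.hom_ext _ _ fun i => ?_
    exact congr(($((ModSite.tensorBi O).map_add (f := φ) (g := ψ))).app (P.X i))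

instance (priority := 10000) (P : CochainComplex (ModSite.Mod O) ℤ) : (siteTens P).PreservesZeroMorphisms where
  map_zero a b := HomologicalComplex.hom_ext _ _ fun i =>
    congr(($((ModSite.tensorBi O).map_zero a b)).app (P.X i))

/-- `M ⊗ res E` is exact in `M`. -/
theorem shortExact_siteTens (E : CochainComplex (ModSite.Mod O) ℤ) (S : ShortComplex (ModSite.Mod O))
    (hS : S.ShortExact) : (S.map (siteTens (res E))).ShortExact :=
  HomologicalComplex.shortExact_of_degreewise_shortExact (S.map (siteTens (res E))) fun i =>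
    (isFlatObj_iff _).2 (isFlat_res_X E i) S hS

variable (E : CochainComplex (ModSite.Mod O) ℤ) [ModSite.HasLTensorCx E]

/-- The derived tensor product on modules is computed by a resolution of `E`. -/
theorem nonempty_gfunIso (p : ℤ) :
    Nonempty (DerivedCategory.singleFunctor (ModSite.Mod O) 0 ⋙ ModSite.LTensorCx E ⋙
        DerivedCategory.homologyFunctor (ModSite.Mod O) p ≅
      siteTens (res E) ⋙ HomologicalComplex.homologyFunctor (ModSite.Mod O) (ComplexShape.up ℤ) p) := by
  haveI := ModKFlat.countableAB4 (O := O)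
  let sgl := HomologicalComplex.single (ModSite.Mod O) (ComplexShape.up ℤ) 0
  let L := ModSite.LTensorCx E
  let r := resFun O
  let T := ModSite.tensorCx O
  have hQ : ∀ {G G' : CochainComplex (ModSite.Mod O) ℤ} (φ : G ⟶ G'), QuasiIso φ → IsIso (DerivedCategory.Q.map φ) :=
    fun φ h => Localization.inverts DerivedCategory.Q (HomologicalComplex.quasiIso _ _) φ h
  let a₁ : (sgl ⋙ r) ⋙ DerivedCategory.Q ⋙ L ≅ sgl ⋙ DerivedCategory.Q ⋙ L :=
    NatIso.ofComponents
      (fun M => L.mapIso (@asIso _ _ _ _ _ (hQ (resψ (sgl.obj M)) (quasiIso_resψ _).1)))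
      (fun {M N} φ => by
        show L.map (DerivedCategory.Q.map (r.map (sgl.map φ))) ≫ L.map _ = L.map _ ≫ L.map _
        rw [← L.map_comp, ← L.map_comp]
        refine congrArg L.map ?_
        show DerivedCategory.Q.map _ ≫ DerivedCategory.Q.map _ = DerivedCategory.Q.map _ ≫ DerivedCategory.Q.map _
        rw [← DerivedCategory.Q.map_comp, ← DerivedCategory.Q.map_comp]
        exact congrArg DerivedCategory.Q.map ((KFlat.Res.ψ (cover O) (coverπ O)).naturality (sgl.map φ)))
  let η := (ModSite.tensorCxQ E).totalLeftDerivedCounit DerivedCategory.Q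
    (HomologicalComplex.quasiIso (ModSite.Mod O) (ComplexShape.up ℤ))
  let a₂ : (sgl ⋙ r) ⋙ DerivedCategory.Q ⋙ L ≅ (sgl ⋙ r) ⋙ ModSite.tensorCxQ E :=
    NatIso.ofComponents
      (fun M => @asIso _ _ _ _ _ (isIso_LTensorCx_counit O E _ (isKFlat_flip_res (sgl.obj M))))
      (fun {M N} φ => η.naturality (r.map (sgl.map φ)))
  let P := res E
  let a₃ : (sgl ⋙ r) ⋙ ModSite.tensorCxQ P ≅ (sgl ⋙ r) ⋙ ModSite.tensorCxQ E :=
    NatIso.ofComponents
      (fun M => @asIso _ _ _ _ _ (hQ ((T.obj (r.obj (sgl.obj M))).map (resψ E)) (by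
        haveI := (quasiIso_resψ E).1
        exact KFlat.quasiIso_tot_map_of_isKFlat_left (ModSite.tensorBi O) _ (resψ E)
          fun W hW => KFlat.acyclic_tot_of_isKFlat_flip (isKFlat_flip_res (sgl.obj M)) hW)))
      (fun {M N} φ => by
        show DerivedCategory.Q.map _ ≫ DerivedCategory.Q.map _ = DerivedCategory.Q.map _ ≫ DerivedCategory.Q.map _
        rw [← DerivedCategory.Q.map_comp, ← DerivedCategory.Q.map_comp]
        exact congrArg DerivedCategory.Q.map (((T.map (r.map (sgl.map φ))).naturality (resψ E)).symm))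
  let a₄ : (sgl ⋙ r) ⋙ ModSite.tensorCxQ P ≅ sgl ⋙ ModSite.tensorCxQ P :=
    NatIso.ofComponents
      (fun M => @asIso _ _ _ _ _ (hQ ((T.map (resψ (sgl.obj M))).app P) (by
        haveI := (quasiIso_resψ (sgl.obj M)).1
        exact KFlat.quasiIso_left_map (ModSite.tensorBi O) (resψ (sgl.obj M)) (isKFlat_res E))))
      (fun {M N} φ => by
        show DerivedCategory.Q.map _ ≫ DerivedCategory.Q.map _ = DerivedCategory.Q.map _ ≫ DerivedCategory.Q.map _
        rw [← DerivedCategory.Q.map_comp, ← DerivedCategory.Q.map_comp]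
        refine congrArg DerivedCategory.Q.map ?_
        show (T.map (r.map (sgl.map φ))).app P ≫ (T.map (resψ (sgl.obj N))).app P =
          (T.map (resψ (sgl.obj M))).app P ≫ (T.map (sgl.map φ)).app P
        rw [← NatTrans.comp_app, ← NatTrans.comp_app, ← T.map_comp, ← T.map_comp]
        exact congrArg (fun z => (T.map z).app P) ((KFlat.Res.ψ (cover O) (coverπ O)).naturality (sgl.map φ)))
  let a₅ : sgl ⋙ T.flip.obj P ≅ siteTens P :=
    NatIso.ofComponents (fun M => (singleLeftApp (ModSite.tensorBi O) P M).symm)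
      (fun {M N} φ => by
        have h := singleLeftApp_natural (ModSite.tensorBi O) P φ
        exact (Iso.comp_inv_eq _).2 ((((Category.assoc _ _ _).trans (congrArg (fun z => _ ≫ z) h)).trans
          (Iso.inv_hom_id_assoc _ _)).symm))
  let b : DerivedCategory.singleFunctor (ModSite.Mod O) 0 ⋙ L ≅ siteTens P ⋙ DerivedCategory.Q :=
    Functor.isoWhiskerRight (DerivedCategory.singleFunctorIsoCompQ (ModSite.Mod O) 0) L ≪≫
      Functor.associator _ _ _ ≪≫ a₁.symm ≪≫ a₂ ≪≫ a₃.symm ≪≫ a₄ ≪≫
      (Functor.associator sgl (T.flip.obj P) DerivedCategory.Q).symm ≪≫ Functor.isoWhiskerRight a₅ _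
  exact ⟨(Functor.associator _ _ _).symm ≪≫ Functor.isoWhiskerRight b _ ≪≫ Functor.associator _ _ _ ≪≫
    Functor.isoWhiskerLeft _ (DerivedCategory.homologyFunctorFactors (ModSite.Mod O) p)⟩

end Site

end Groth.Agent.H16Derived.Exchange
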