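import Groth.Agent.H16Derived.Exchange.Exact
import Groth.Agent.H16Derived.Exchange.Site
import Groth.Agent.H16Derived.KFlat.FlatIff
import Groth.Agent.H16Derived.KFlat.PerfRegular

/-!
# Exactness near a point
-/

set_option autoImplicit false
set_option linter.style.haveILetI false
set_option backward.isDefEq.respectTransparency false

universe u

open CategoryTheory CategoryTheory.Limits AlgebraicGeometry MonoidalCategory
open scoped ZeroObject

attribute [local instance] HasDerivedCategory.standard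

namespace Groth.Agent.H16Derived.Exchange

open Groth.Agent.H16Derived.KFlat Groth.Agent.H16Derived.KFlat.Stalk
open Groth.Agent.H4DR.TorAmp
open Groth.Agent.H4DR.KFlatMod (bi)

variable {X : Scheme.{u}}

/-- The functor at `x`, through the cokernels of a local approximation. -/
theorem exists_approx_map (F : CochainComplex X.Modules ℤ) (p : ℤ)
    (hE : DCoh.IsPseudoCoherentD (p - 1) (DCoh.toD X F)) {P : CochainComplex X.Modules ℤ}
    (hP : kflat X P) (eP : DCoh.toD X P ≅ DCoh.toD X F) (x : X) :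
    ∃ (W : X.Opens) (S : CochainComplex (W : Scheme.{u}).Modules ℤ) (π : S ⟶ (DCoh.restrictCx W).obj P)
      (hx : x ∈ W), DCoh.IsStrictlyPerfect S ∧ Approx (p - 1) (DerivedCategory.Q.map π) ∧ ∀ (y : W),
      (((CohIII.TFun (((DerSch.stalkFunctor X (W.ι.base y)).mapHomologicalComplex (ComplexShape.up ℤ)).obj P) p).PreservesMonomorphisms ↔
          FlatMod.IsFlatAt (cokernel (S.d (p - 1) p)) y) ∧
        ((CohIII.TFun (((DerSch.stalkFunctor X (W.ι.base y)).mapHomologicalComplex (ComplexShape.up ℤ)).obj P) p).PreservesEpimorphisms ↔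
          FlatMod.IsFlatAt (cokernel (S.d p (p + 1))) y) ∧
        (∀ (T : ShortComplex (ModuleCat.{u} (X.presheaf.stalk (W.ι.base y)))), T.ShortExact →
          (T.map (CohIII.TFun (((DerSch.stalkFunctor X (W.ι.base y)).mapHomologicalComplex (ComplexShape.up ℤ)).obj P) p)).Exact)) := by
  obtain ⟨V₀, hx₀, S₀, α₀, hS₀, hα₀⟩ := (isPseudoCoherentD_iff _ _).1 hE x
  obtain ⟨W₀, π, hxW, hπ⟩ := exists_real hS₀ (α₀ ≫ (rd V₀.ι).map eP.inv ≫ (rdQ V₀.ι).hom.app P) ⟨x, hx₀⟩
  let W : X.Opens := V₀.ι ''ᵁ W₀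
  let σ : (W : Scheme.{u}) ⟶ W₀ := (V₀.ι.isoImage W₀).inv
  have hσ : σ ≫ W₀.ι ≫ V₀.ι = W.ι := V₀.ι.isoImage_inv_ι W₀
  let S : CochainComplex (W : Scheme.{u}).Modules ℤ :=
    ((Scheme.Modules.restrictFunctor σ).mapHomologicalComplex (ComplexShape.up ℤ)).obj
      ((DCoh.restrictCx W₀).obj S₀)
  have hS : DCoh.IsStrictlyPerfect S := isStrictlyPerfect_rd σ (isStrictlyPerfect_rd W₀.ι hS₀)
  have hπ' : Approx (p - 1) (DerivedCategory.Q.map π) := hπ ▸ (Approx.of_isIso _ _).comp
    (((hα₀.comp ((Approx.of_isIso _ _).comp (Approx.of_isIso _ _))).map_rd W₀.ι).comp (Approx.of_isIso _ _))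
  let eW : ((Scheme.Modules.restrictFunctor σ).mapHomologicalComplex (ComplexShape.up ℤ)).obj
      ((DCoh.restrictCx W₀).obj ((DCoh.restrictCx V₀).obj P)) ≅ (DCoh.restrictCx W).obj P :=
    (NatIso.mapHomologicalComplex (restrictCompIso₃ σ W₀.ι V₀.ι W.ι hσ) (ComplexShape.up ℤ)).app P
  let π' : S ⟶ (DCoh.restrictCx W).obj P :=
    ((Scheme.Modules.restrictFunctor σ).mapHomologicalComplex (ComplexShape.up ℤ)).map π ≫ eW.hom
  have hπW : Approx (p - 1) (DerivedCategory.Q.map π') := by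
    rw [Functor.map_comp]
    exact (approx_map (Scheme.Modules.restrictFunctor σ) hπ').comp (Approx.of_isIso _ _)
  refine ⟨W, S, π', ⟨⟨x, hx₀⟩, hxW, rfl⟩, hS, hπW, fun y => ?_⟩
  let R := X.presheaf.stalk (W.ι.base y)
  let φ := (W.ι.stalkMap y).hom
  have hφ : Function.Bijective φ := ConcreteCategory.bijective_of_isIso (W.ι.stalkMap y)
  let S' := (DerSch.stalkCxOver W.ι y).obj S
  let π₁ : S' ⟶ ((DerSch.stalkFunctor X (W.ι.base y)).mapHomologicalComplex (ComplexShape.up ℤ)).obj P :=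
    (DerSch.stalkCxOver W.ι y).map π' ≫ (TorTest.stalkRestrictIso W.ι P y).hom
  have hflat : ∀ i, Module.Flat R (S'.X i) := fun i =>
    (flat_iff_of_bijective φ hφ ((DerSch.stalkFunctor (W : Scheme.{u}) y).obj (S.X i))).2 (isFlat_of_isFinLocFree (hS.2 i) y)
  obtain ⟨a, b, hab⟩ := hS.1
  have hS' : KFlat.IsKFlat (bi R) S' :=
    isKFlat_of_flat (c := b) (fun i hi => (DerSch.stalkOver W.ι y).map_isZero (hab i (Or.inr hi))) hflat
  have hP' : KFlat.IsKFlat (bi R)
      (((DerSch.stalkFunctor X (W.ι.base y)).mapHomologicalComplex (ComplexShape.up ℤ)).obj P) :=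
    (H25DTen.isKFlat_iff _).1 ((isKFlat_iff_stalk P).1 hP _)
  have hπ₁ : Approx (p - 1) (DerivedCategory.Q.map π₁) := by
    rw [Functor.map_comp]
    haveI : PreservesFiniteLimits (DerSch.stalkOver W.ι y) := comp_preservesFiniteLimits _ _
    haveI : PreservesFiniteColimits (DerSch.stalkOver W.ι y) := comp_preservesFiniteColimits _ _
    exact (approx_map (DerSch.stalkOver W.ι y) hπW).comp (Approx.of_isIso _ _)
  obtain ⟨i⟩ := nonempty_TFun_iso π₁ hS' hP' hπ₁ (j := p) (by omega)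
  haveI := hflat (p + 1)
  have hij : (ComplexShape.up ℤ).prev p = p - 1 := CochainComplex.prev ℤ p
  have hjk : (ComplexShape.up ℤ).next p = p + 1 := CochainComplex.next ℤ p
  refine ⟨?_, ?_, fun T hT => ShortComplex.exact_of_iso (T.mapNatIso i) (H06FlatCx.tFun_exact S' hij hjk T hT)⟩
  · rw [← Functor.PreservesMonomorphisms.iso_iff i, H06FlatCx.preservesMono_iff_flat S' hij hjk]
    exact flat_coker_stalk_iff W.ι S (p - 1) p y
  · rw [← Functor.PreservesEpimorphisms.iso_iff i, H06FlatCx.preservesEpi_iff_flat S' hij hjk]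
    exact flat_coker_stalk_iff W.ι S p (p + 1) y

/-- `M ↦ M ⊗ P` is exact for flat terms. -/
theorem shortExact_tensCx (P : CochainComplex X.Modules ℤ) (hf : ∀ i, FlatMod.IsFlat (P.X i))
    (T : ShortComplex X.Modules) (hT : T.ShortExact) : (T.map (tensCx (DCoh.tensorBi (X := X)) P)).ShortExact :=
  HomologicalComplex.shortExact_of_degreewise_shortExact (T.map (tensCx (DCoh.tensorBi (X := X)) P)) fun i =>
    isFlatObj_of_isFlat (hf i) T hT

/-- An approximation on the whole scheme computes the functor at each point. -/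
theorem preservesMono_iff_of_approx {S P : CochainComplex X.Modules ℤ} (π : S ⟶ P) (hS : DCoh.IsStrictlyPerfect S)
    (hP : kflat X P) {p : ℤ} (hπ : Approx (p - 1) (DerivedCategory.Q.map π)) (x : X) :
    (CohIII.TFun ((TorTest.Sx x).obj P) p).PreservesMonomorphisms ↔
      FlatMod.IsFlatAt (cokernel (S.d (p - 1) p)) x := by
  have hflat : ∀ i, Module.Flat (X.presheaf.stalk x) (((TorTest.Sx x).obj S).X i) := fun i =>
    isFlat_of_isFinLocFree (hS.2 i) x
  obtain ⟨a, b, hab⟩ := hS.1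
  have hS' : KFlat.IsKFlat (bi _) ((TorTest.Sx x).obj S) :=
    isKFlat_of_flat (c := b) (fun i hi => (DerSch.stalkFunctor X x).map_isZero (hab i (Or.inr hi))) hflat
  obtain ⟨i⟩ := nonempty_TFun_iso ((TorTest.Sx x).map π) hS'
    ((H25DTen.isKFlat_iff _).1 ((isKFlat_iff_stalk P).1 hP x)) (approx_map (DerSch.stalkFunctor X x) hπ) (j := p) (by omega)
  haveI := hflat (p + 1)
  rw [← Functor.PreservesMonomorphisms.iso_iff i,
    H06FlatCx.preservesMono_iff_flat ((TorTest.Sx x).obj S) (CochainComplex.prev ℤ p) (CochainComplex.next ℤ p)]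
  let e' := (PreservesCokernel.iso (DerSch.stalkFunctor X x) (S.d (p - 1) p) ≪≫
    ModuleCat.cokernelIsoRangeQuotient _).toLinearEquiv
  show _ ↔ Module.Flat (X.presheaf.stalk x) ((DerSch.stalkFunctor X x).obj (cokernel (S.d (p - 1) p)))
  exact ⟨fun h => @Module.Flat.of_linearEquiv _ _ _ _ _ _ _ _ h e',
    fun h => @Module.Flat.of_linearEquiv _ _ _ _ _ _ _ _ h e'.symm⟩

/-- Left exactness at a point spreads to a neighbourhood. -/
theorem exists_nhd_preservesMono (F : CochainComplex X.Modules ℤ) (p : ℤ)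
    (hE : DCoh.IsPseudoCoherentD (p - 1) (DCoh.toD X F)) {P : CochainComplex X.Modules ℤ} (hP : kflat X P)
    (eP : DCoh.toD X P ≅ DCoh.toD X F) (x : X)
    (h : (CohIII.TFun ((TorTest.Sx x).obj P) p).PreservesMonomorphisms) :
    ∃ U : X.Opens, x ∈ U ∧ ∀ u : U,
      (CohIII.TFun ((TorTest.Sx u).obj ((DCoh.restrictCx U).obj P)) p).PreservesMonomorphisms := by
  obtain ⟨W, S, π, hx, hS, hπ, hy⟩ := exists_approx_map F p hE hP eP x
  have hfp := H06EGA11.isFP_cokernel (H8Props.FinLocFree.isFP_of_isFinLocFree _ (hS.2 p))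
    (H8Props.FinLocFree.isFP_of_isFinLocFree _ (hS.2 (p - 1))) (S.d (p - 1) p)
  obtain ⟨V, hxV, hV⟩ := exists_isFinLocFree_nhd hfp ⟨x, hx⟩ ((hy ⟨x, hx⟩).1.1 h)
  let U : X.Opens := W.ι ''ᵁ V
  let σ : (U : Scheme.{u}) ⟶ V := (W.ι.isoImage V).inv
  have hσ : σ ≫ V.ι ≫ W.ι = U.ι := W.ι.isoImage_inv_ι V
  let R := (Scheme.Modules.restrictFunctor V.ι ⋙ Scheme.Modules.restrictFunctor σ)
  let S' : CochainComplex (U : Scheme.{u}).Modules ℤ := (R.mapHomologicalComplex (ComplexShape.up ℤ)).obj S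
  let eW : (R.mapHomologicalComplex (ComplexShape.up ℤ)).obj ((DCoh.restrictCx W).obj P) ≅ (DCoh.restrictCx U).obj P :=
    (NatIso.mapHomologicalComplex ((Functor.associator _ _ _).symm ≪≫ restrictCompIso₃ σ V.ι W.ι U.ι hσ)
      (ComplexShape.up ℤ)).app P
  let π' : S' ⟶ (DCoh.restrictCx U).obj P := (R.mapHomologicalComplex (ComplexShape.up ℤ)).map π ≫ eW.hom
  haveI : PreservesFiniteLimits R := comp_preservesFiniteLimits _ _
  haveI : PreservesFiniteColimits R := comp_preservesFiniteColimits _ _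
  have hS' : DCoh.IsStrictlyPerfect S' := isStrictlyPerfect_rd σ (isStrictlyPerfect_rd V.ι hS)
  have hπ' : Approx (p - 1) (DerivedCategory.Q.map π') := by
    rw [Functor.map_comp]
    exact (approx_map R hπ).comp (Approx.of_isIso _ _)
  refine ⟨U, ⟨⟨x, hx⟩, hxV, rfl⟩, fun u => ?_⟩
  refine (preservesMono_iff_of_approx π' hS' (kflat_restrict U hP) hπ' u).2 ?_
  exact isFlat_of_isFinLocFree (isFinLocFree_of_iso ((Scheme.Modules.restrictFunctorIsoPullback σ).symm.app _ ≪≫
      PreservesCokernel.iso R (S.d (p - 1) p))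
    (isFinLocFree_pullback σ hV)) u

/-- Stalkwise left exactness gives left exactness, for flat terms. -/
theorem preservesFiniteLimits_of_tfun (P : CochainComplex X.Modules ℤ) (hf : ∀ i, FlatMod.IsFlat (P.X i)) (p : ℤ)
    (h : ∀ x : X, (CohIII.TFun ((TorTest.Sx x).obj P) p).PreservesMonomorphisms) :
    PreservesFiniteLimits (Φ P p) := by
  refine (Functor.preservesFiniteLimits_iff_forall_exact_map_and_mono _).2 fun T hT => ⟨?_, ?_⟩
  · exact (shortExact_tensCx P hf T hT).homology_exact₂ p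
  · haveI := hT.mono_f
    have h0 : ∀ x, Mono ((DerSch.stalkFunctor X x).map ((Φ P p).map T.f)) := fun x => by
      haveI := h x
      exact ((mono_congr (stalkΦIso x P p) T.f).1).2
        (inferInstanceAs (Mono ((CohIII.TFun _ p).map ((DerSch.stalkFunctor X x).map T.f))))
    have h1 : (ShortComplex.mk (0 : (0 : X.Modules) ⟶ _) ((Φ P p).map T.f) zero_comp).Exact :=
      (exact_iff _).2 fun x => by
        have : Mono ((DerSch.stalkFunctor X x).map ((Φ P p).map T.f)) := h0 x
        exact (ShortComplex.exact_iff_mono _ ((DerSch.stalkFunctor X x).map_zero _ _)).2 this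
    exact (ShortComplex.exact_iff_mono _ rfl).1 h1

end Groth.Agent.H16Derived.Exchange
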