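import Groth.Agent.H4DR.TorAmp.LTensorCx
import Groth.Agent.H16Derived.Exchange.Functor
import Groth.Agent.H16Derived.DerComp.SiteTensor

/-!
# `M ↦ H^p(M ⊗^L E)` on modules over a ring
-/

set_option autoImplicit false
set_option linter.style.haveILetI false
set_option backward.isDefEq.respectTransparency false

universe u

open CategoryTheory CategoryTheory.Limits MonoidalCategory

attribute [local instance] HasDerivedCategory.standard

namespace Groth.Agent.H16Derived.Exchange

open Groth.Agent.H4DR.KFlatMod (bi)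

variable {A : Type u} [CommRing A]

/-- The derived functor through a K-flat complex quasi-isomorphic to `E`. -/
theorem nonempty_ring_gfunIso (E P : DRing.Cx A) [DRing.HasLTensorCx A E] (ψ : P ⟶ E) [QuasiIso ψ]
    (hP : KFlat.IsKFlat (bi A) P) (p : ℤ) :
    Nonempty (DerivedCategory.singleFunctor (ModuleCat.{u} A) 0 ⋙ DRing.LTensorCx A E ⋙
        DerivedCategory.homologyFunctor (ModuleCat.{u} A) p ≅ CohIII.TFun P p) := by
  let sgl := HomologicalComplex.single (ModuleCat.{u} A) (ComplexShape.up ℤ) 0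
  let L := DRing.LTensorCx A E
  let r := H25DTen.res A
  let a₁ : (sgl ⋙ r) ⋙ DerivedCategory.Q ⋙ L ≅ sgl ⋙ DerivedCategory.Q ⋙ L :=
    NatIso.ofComponents
      (fun M => L.mapIso (@asIso _ _ _ _ _ (H25DTen.isIso_Q_map ((H25DTen.resψ A).app (sgl.obj M))
        (H25DTen.quasiIso_resψ (sgl.obj M)))))
      (fun {M N} φ => by
        show L.map (DerivedCategory.Q.map (r.map (sgl.map φ))) ≫ L.map _ = L.map _ ≫ L.map _
        rw [← L.map_comp, ← L.map_comp]
        refine congrArg L.map ?_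
        show DerivedCategory.Q.map _ ≫ DerivedCategory.Q.map _ = DerivedCategory.Q.map _ ≫ DerivedCategory.Q.map _
        rw [← DerivedCategory.Q.map_comp, ← DerivedCategory.Q.map_comp]
        exact congrArg DerivedCategory.Q.map ((H25DTen.resψ A).naturality (sgl.map φ)))
  let η := (DRing.tensorCxQ A E).totalLeftDerivedCounit DerivedCategory.Q
    (HomologicalComplex.quasiIso (ModuleCat.{u} A) (ComplexShape.up ℤ))
  let a₂ : (sgl ⋙ r) ⋙ DerivedCategory.Q ⋙ L ≅ (sgl ⋙ r) ⋙ DRing.tensorCxQ A E :=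
    NatIso.ofComponents
      (fun M => @asIso _ _ _ _ _ (H4DR.TorAmp.isIso_ltensorCx_counit E _ (H25DTen.isKFlat_res (sgl.obj M))))
      (fun {M N} φ => η.naturality (r.map (sgl.map φ)))
  let a₃ : (sgl ⋙ r) ⋙ DRing.tensorCxQ A P ≅ (sgl ⋙ r) ⋙ DRing.tensorCxQ A E :=
    NatIso.ofComponents
      (fun M => @asIso _ _ _ _ _ (H25DTen.isIso_Q_map ((r.obj (sgl.obj M)) ◁ ψ)
        (H25DTen.quasiIso_whiskerLeft (r.obj (sgl.obj M)) (H25DTen.isKFlat_res _) ψ)))
      (fun {M N} φ => by
        show DerivedCategory.Q.map _ ≫ DerivedCategory.Q.map _ = DerivedCategory.Q.map _ ≫ DerivedCategory.Q.map _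
        rw [← DerivedCategory.Q.map_comp, ← DerivedCategory.Q.map_comp]
        exact congrArg DerivedCategory.Q.map (whisker_exchange (r.map (sgl.map φ)) ψ).symm)
  let a₄ : (sgl ⋙ r) ⋙ DRing.tensorCxQ A P ≅ sgl ⋙ DRing.tensorCxQ A P :=
    NatIso.ofComponents
      (fun M => @asIso _ _ _ _ _ (H25DTen.isIso_Q_map (((H25DTen.resψ A).app (sgl.obj M)) ▷ P) (by
        haveI := H25DTen.quasiIso_resψ (sgl.obj M)
        exact H25DTen.quasiIso_whiskerRight _ hP)))
      (fun {M N} φ => by
        show DerivedCategory.Q.map _ ≫ DerivedCategory.Q.map _ = DerivedCategory.Q.map _ ≫ DerivedCategory.Q.map _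
        rw [← DerivedCategory.Q.map_comp, ← DerivedCategory.Q.map_comp]
        refine congrArg DerivedCategory.Q.map ?_
        show (r.map (sgl.map φ)) ▷ P ≫ ((H25DTen.resψ A).app (sgl.obj N)) ▷ P =
          ((H25DTen.resψ A).app (sgl.obj M)) ▷ P ≫ (sgl.map φ) ▷ P
        rw [← comp_whiskerRight, ← comp_whiskerRight]
        exact congrArg (fun z => z ▷ P) ((H25DTen.resψ A).naturality (sgl.map φ)))
  let a₅ : sgl ⋙ tensorRight P ≅ tensCx (curriedTensor (ModuleCat.{u} A)) P :=
    NatIso.ofComponents (fun M => (DerCompLib.singleLeftApp (bi A) P M).symm)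
      (fun {M N} φ => by
        have h := DerCompLib.singleLeftApp_natural (bi A) P φ
        exact (Iso.comp_inv_eq _).2 ((((Category.assoc _ _ _).trans (congrArg (fun z => _ ≫ z) h)).trans
          (Iso.inv_hom_id_assoc _ _)).symm))
  let b : DerivedCategory.singleFunctor (ModuleCat.{u} A) 0 ⋙ L ≅
      tensCx (curriedTensor (ModuleCat.{u} A)) P ⋙ DerivedCategory.Q :=
    Functor.isoWhiskerRight (DerivedCategory.singleFunctorIsoCompQ (ModuleCat.{u} A) 0) L ≪≫
      Functor.associator _ _ _ ≪≫ a₁.symm ≪≫ a₂ ≪≫ a₃.symm ≪≫ a₄ ≪≫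
      (Functor.associator sgl (tensorRight P) DerivedCategory.Q).symm ≪≫ Functor.isoWhiskerRight a₅ _
  exact ⟨(Functor.associator _ _ _).symm ≪≫ Functor.isoWhiskerRight b _ ≪≫ Functor.associator _ _ _ ≪≫
    Functor.isoWhiskerLeft _ (DerivedCategory.homologyFunctorFactors (ModuleCat.{u} A) p) ≪≫ tensBraidIso P p⟩

end Groth.Agent.H16Derived.Exchange
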