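import Groth.Agent.H16Derived.Exchange.Local
import Groth.Agent.H16Derived.Exchange.StalkDer

/-!
# Left and right exactness near a point
-/

set_option autoImplicit false
set_option linter.style.haveILetI false
set_option backward.isDefEq.respectTransparency false

universe u

open CategoryTheory CategoryTheory.Limits AlgebraicGeometry MonoidalCategory

attribute [local instance] HasDerivedCategory.standard

namespace Groth.Agent.H16Derived.Exchange

open Groth.Agent.H16Derived.KFlat Groth.Agent.H16Derived.KFlat.Stalk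

variable {X : Scheme.{u}}

theorem isFlat_res_X (F : CochainComplex X.Modules ℤ) (i : ℤ) : FlatMod.IsFlat (((res (X := X)).obj F).X i) :=
  isFlat_of_isFlatObj (Res.isFlatObj_P (fun M => isFlatObj_of_isFlat (isFlat_cover M)) F i)

/-- The functor at the stalk, through the resolution. -/
theorem nonempty_stalk_gfunIso (F : CochainComplex X.Modules ℤ) (x : X)
    [DRing.HasLTensorCx (X.presheaf.stalk x) ((TorTest.Sx x).obj F)] (p : ℤ) :
    Nonempty (DerivedCategory.singleFunctor (ModuleCat.{u} (X.presheaf.stalk x)) 0 ⋙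
        DRing.LTensorCx (X.presheaf.stalk x) ((TorTest.Sx x).obj F) ⋙
        DerivedCategory.homologyFunctor (ModuleCat.{u} (X.presheaf.stalk x)) p ≅
      CohIII.TFun ((TorTest.Sx x).obj ((res (X := X)).obj F)) p) := by
  haveI : QuasiIso ((TorTest.Sx x).map ((resψ (X := X)).app F)) := by
    haveI := quasiIso_resψ F
    infer_instance
  exact @nonempty_ring_gfunIso _ _ ((TorTest.Sx x).obj F) _ ‹_› ((TorTest.Sx x).map ((resψ (X := X)).app F)) ‹_›
    ((H25DTen.isKFlat_iff _).1 ((isKFlat_iff_stalk _).1 (isKFlat_res F) x)) p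

/-- Right exactness in degree `p` gives left exactness in degree `p + 1`, at a point. -/
theorem preservesMono_succ (P : CochainComplex X.Modules ℤ) (hf : ∀ i, FlatMod.IsFlat (P.X i)) (x : X) (p q : ℤ)
    (hq : p + 1 = q) (h : (CohIII.TFun ((TorTest.Sx x).obj P) p).PreservesEpimorphisms) :
    (CohIII.TFun ((TorTest.Sx x).obj P) q).PreservesMonomorphisms := by
  subst hq
  haveI : Module.Flat (X.presheaf.stalk x) (((TorTest.Sx x).obj P).X (p + 1)) := hf (p + 1) x
  haveI : Module.Flat (X.presheaf.stalk x) (((TorTest.Sx x).obj P).X (p + 1 + 1)) := hf (p + 1 + 1) x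
  have h1 := (H06FlatCx.preservesEpi_iff_flat ((TorTest.Sx x).obj P) (CochainComplex.prev ℤ p)
    (CochainComplex.next ℤ p)).1 h
  refine (H06FlatCx.preservesMono_iff_flat ((TorTest.Sx x).obj P) (i := p) ?_ (CochainComplex.next ℤ (p + 1))).2 h1
  simp

variable (F : CochainComplex X.Modules ℤ)

/-- Left exactness spreads. -/
theorem exists_nhd_leftExact (p : ℤ) (hE : DCoh.IsPseudoCoherentD (p - 1) (DCoh.toD X F)) (x : X)
    (h : (CohIII.TFun ((TorTest.Sx x).obj ((res (X := X)).obj F)) p).PreservesMonomorphisms) :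
    ∃ U : X.Opens, x ∈ U ∧
      PreservesFiniteLimits (Φ ((DCoh.restrictCx U).obj ((res (X := X)).obj F)) p) := by
  haveI := isIso_Q_map _ (quasiIso_resψ F)
  obtain ⟨U, hx, hU⟩ := exists_nhd_preservesMono F p hE (isKFlat_res F)
    (asIso (DerivedCategory.Q.map ((resψ (X := X)).app F))) x h
  exact ⟨U, hx, preservesFiniteLimits_of_tfun _ (fun i => isFlat_restrictFunctor U.ι (isFlat_res_X F i)) p hU⟩

/-- The restricted functor. -/
noncomputable def gfunRestrictIso (p : ℤ) (U : X.Opens) [DCoh.HasLTensorCx ((DCoh.restrictCx U).obj F)] :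
    Gfun ((DCoh.restrictCx U).obj F) p ≅ Φ ((DCoh.restrictCx U).obj ((res (X := X)).obj F)) p :=
  haveI := isIso_Q_map _ (quasiIso_resψ F)
  gfunIso _ p (kflat_restrict U (isKFlat_res F))
    (((rdQ U.ι).app _).symm ≪≫ (rd U.ι).mapIso (asIso (DerivedCategory.Q.map ((resψ (X := X)).app F))) ≪≫
      (rdQ U.ι).app _)

end Groth.Agent.H16Derived.Exchange
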