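import Groth.Agent.H16Derived.QCohD.Rpush
import Groth.Agent.H10Coh.Pn.Vanishing
import Groth.Agent.H27Weil.Geometry
import Groth.Agent.LeadVA.Spread

/-!
# The cohomological bound of projective space over an affine base
-/

set_option autoImplicit false
set_option linter.style.haveILetI false
set_option backward.isDefEq.respectTransparency false

universe u

open CategoryTheory CategoryTheory.Limits AlgebraicGeometry TopologicalSpace

attribute [local instance] HasDerivedCategory.standard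

namespace Groth.Agent.H16Derived.Exchange

open H10Coh

/-- `R^p` of the projection of `P^r` vanishes on quasi-coherent modules for `p > r`. -/
theorem bound_toBase (Y : Scheme.{u}) [IsAffine Y] (r : ℕ) :
    QCohD.Bound (CohB1.ProjSpaceOver.toBase r Y) (r + 1) := by
  intro M hM _ p hp
  haveI : IsProper (CohB1.ProjSpaceOver.toBase r Y) := H27Weil.isProper_toBase r Y
  let f := CohB1.ProjSpaceOver.toBase r Y
  let Z := CohB1.ProjSpaceOver r Y
  haveI : IsAffine (Spec (CommRingCat.of (ULift.{u} ℤ))) := inferInstance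
  haveI : IsAffineHom (LeadVA.pfst r Y) := MorphismProperty.pullback_fst _ _ inferInstance
  haveI : Y.IsSeparated := inferInstance
  haveI : Z.IsSeparated := ⟨by
    rw [← terminal.comp_from (f : Z ⟶ Y)]
    infer_instance⟩
  obtain ⟨n, rfl⟩ := Nat.exists_eq_succ_of_ne_zero (show p ≠ 0 by omega)
  rw [IsZero.iff_id_eq_zero]
  refine (H10Coh.shF Y).map_injective (((IsZero.of_iso ?_
    (H10Coh.nonempty_toAb_rpush f M (n + 1)).some)).eq_of_src _ _)
  refine isZero_rpush_of_vanishing f.base (Coh.toAb M) n {W | ∃ g : Γ(Y, ⊤), W = Y.basicOpen g} ?_ ?_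
  · rw [Opens.isBasis_iff_nbhd]
    intro O x hx
    obtain ⟨g, hg, hxg⟩ := (isAffineOpen_top Y).exists_basicOpen_le ⟨x, hx⟩ (Opens.mem_top x)
    exact ⟨_, ⟨g, rfl⟩, hxg, hg⟩
  · rintro W ⟨g, rfl⟩
    let U : Fin (r + 1) → Z.Opens := fun k =>
      LeadVA.pfst r Y ⁻¹ᵁ (Pn.Us r (ULift.{u} ℤ) ⟨k⟩) ⊓ f ⁻¹ᵁ Y.basicOpen g
    have hU : ∀ k, IsAffineOpen (U k) := fun k => by
      have h0 := (Proj.isAffineOpen_basicOpen (Pn.Gr r (ULift.{u} ℤ)) _
        (Groth.Agent.H11Proj.ProjSpace.X_mem r (ULift.{u} ℤ) k) one_pos).preimage (LeadVA.pfst r Y)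
      show IsAffineOpen (_ ⊓ _)
      rw [Scheme.preimage_basicOpen f g, ← Scheme.basicOpen_res Z (f.app ⊤ g) (homOfLE le_top).op]
      exact h0.basicOpen _
    have hcov : (⨆ k, U k) = f ⁻¹ᵁ Y.basicOpen g := by
      have h1 : (⨆ k : Fin (r + 1), LeadVA.pfst r Y ⁻¹ᵁ (Pn.Us r (ULift.{u} ℤ) ⟨k⟩)) = ⊤ := by
        rw [← Scheme.Hom.preimage_iSup, show (⨆ k : Fin (r + 1), Pn.Us r (ULift.{u} ℤ) ⟨k⟩) = ⊤ from
          Groth.Agent.H11Proj.ProjSpace.iSup_basicOpen r (ULift.{u} ℤ)]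
        rfl
      show (⨆ k, _ ⊓ f ⁻¹ᵁ Y.basicOpen g) = _
      rw [← iSup_inf_eq, h1, top_inf_eq]
    haveI : M.IsQuasicoherent := hM
    have h := subsingleton_of_affine_cover (fun V W hV hW => hV.inf hW) M (r + 1) U hU (n + 1) (by omega)
    rw [hcov] at h
    exact h

end Groth.Agent.H16Derived.Exchange
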