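import Groth.Agent.H16Derived.TorTest.RpushAmpLoc
import Groth.Agent.H16Derived.ProperSupp.Perfect
import Groth.Agent.H16Derived.ProperSupp.Tensor
import Groth.Agent.H16Derived.KFlat.PerfNoeth
import Groth.Agent.H8Props.PerfectStalks
import Groth.Agent.H10Coh.Support

/-!
# Direct images of perfect objects along proper perfect morphisms
-/

set_option autoImplicit false
set_option linter.style.haveILetI false
set_option backward.isDefEq.respectTransparency false

universe u

open CategoryTheory CategoryTheory.Limits AlgebraicGeometry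

attribute [local instance] HasDerivedCategory.standard

namespace Groth.Agent.H16Derived.Exchange

open Groth.Agent.H16Derived.KFlat Groth.Agent.H16Derived.KFlat.Stalk Groth.Agent.H8Props

variable {X S : Scheme.{u}} (f : X ⟶ S)

/-- A perfect morphism has, locally on the source, bounded tor dimension at the stalks. -/
theorem exists_torDim_stalks_of_perfectMor (hf : MoreMor.IsPerfectMor f) (x : X) :
    ∃ (U : X.Opens) (d : ℕ), x ∈ U ∧ ∀ x' ∈ U, (letI := (f.stalkMap x').hom.toAlgebra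
      DRing.HasTorDimLE ↑(S.presheaf.stalk (f x')) d ↑(X.presheaf.stalk x')) := by
  obtain ⟨V, hV, hxV, -⟩ := exists_isAffineOpen_mem_and_subset (x := f x) (U := ⊤) trivial
  obtain ⟨U, hU, hxU, hUV⟩ := exists_isAffineOpen_mem_and_subset (x := x) (U := f ⁻¹ᵁ V) hxV
  have e : U ≤ f ⁻¹ᵁ V := hUV
  letI := (f.appLE V U e).hom.toAlgebra
  obtain ⟨-, d, hd⟩ := PseudoCoh.isPerfectHom_iff.mp (hf U V hU hV e)
  refine ⟨U, d, hxU, fun x' hx' => (PerfectStalks.torDim_stalk_iff f hV (e hx') d).2 ?_⟩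
  rw [PerfectStalks.germ_stalkMap_eq f e hx']
  let T := X.presheaf.stalk x'
  letI aT : Algebra Γ(X, U) T := TopCat.Presheaf.algebra_section_stalk X.presheaf (⟨x', hx'⟩ : U)
  haveI : IsLocalization.AtPrime T (hU.primeIdealOf ⟨x', hx'⟩).asIdeal :=
    hU.isLocalization_stalk ⟨x', hx'⟩
  haveI : Module.Flat Γ(X, U) T := IsLocalization.flat T (hU.primeIdealOf ⟨x', hx'⟩).asIdeal.primeCompl
  letI : Algebra Γ(S, V) T := (f.appLE V U e ≫ X.presheaf.germ U x' hx').hom.toAlgebra
  haveI : IsScalarTower Γ(S, V) Γ(X, U) T := IsScalarTower.of_algebraMap_eq fun _ => rfl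
  exact PseudoCoh.hasTorDimLE_of_flat_algebra hd T

/-- Absolute tor amplitude and tor dimension at the stalk give relative tor amplitude. -/
theorem at_of_torDim {a b : ℤ} {d : ℕ} {F : CochainComplex X.Modules ℤ} {x : X}
    (hF : DerSch.HasTorAmplitudeAt (𝟙 X) a b F x)
    (hd : letI := (f.stalkMap x).hom.toAlgebra
      DRing.HasTorDimLE ↑(S.presheaf.stalk (f x)) d ↑(X.presheaf.stalk x)) :
    DerSch.HasTorAmplitudeAt f (a - d) b F x := by
  refine (TorTest.at_congr (Category.id_comp f) _ _ F x).1 ?_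
  letI : Algebra (S.presheaf.stalk (f.base x)) (X.presheaf.stalk x) := (f.stalkMap x).hom.toAlgebra
  have hB : DRing.HasTorAmplitudeIn (S.presheaf.stalk (f.base x)) (-(d : ℤ)) 0
      (Dual.inD (S.presheaf.stalk (f.base x)) (X.presheaf.stalk x)) :=
    (H4DR.TorAmp.ta_inD_iff d (ModuleCat.of _ _)).2 hd
  exact H4DR.TorAmp.ta_of_iso ((DTen.resFactors (f.stalkMap x).hom).app _ ≪≫
    DerivedCategory.Q.mapIso (TorTest.stalkOverCompIso (𝟙 X) f x F).symm) (H4DR.TorAmp.ta_restrict hB hF)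

/-- Perfect objects have locally finite tor amplitude relative to a perfect morphism. -/
theorem locFiniteTorAmplitude_of_perfectMor (hf : MoreMor.IsPerfectMor f) {F : CochainComplex X.Modules ℤ}
    (hF : DCoh.IsPerfect (DCoh.toD X F)) : DerSch.LocFiniteTorAmplitude f F := fun x => by
  obtain ⟨U, d, hx, hd⟩ := exists_torDim_stalks_of_perfectMor f hf x
  obtain ⟨V, a, b, hxV, h⟩ := ProperSupp.locFiniteTorAmplitude_id hF x
  exact ⟨U ⊓ V, a - d, b, ⟨hx, hxV⟩, fun x' hx' => at_of_torDim f (h x' hx'.2) (hd x' hx'.1)⟩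

/-- **Direct images of perfect objects along proper perfect morphisms.** -/
theorem isPerfect_rpush_of_perfectMor [IsLocallyNoetherian S] [IsProper f] (hf : MoreMor.IsPerfectMor f)
    [DCoh.HasRpush f] {E : DCoh.D X} (hE : DCoh.IsPerfect E) : DCoh.IsPerfect ((DCoh.Rpush f).obj E) := by
  let F := DerivedCategory.Q.objPreimage E
  let eF : DCoh.toD X F ≅ E := DerivedCategory.Q.objObjPreimageIso E
  have hF : DCoh.IsPerfect (DCoh.toD X F) := isPerfect_of_iso eF.symm hE
  have hT := locFiniteTorAmplitude_of_perfectMor f hf hF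
  refine isPerfect_of_rd fun s => ?_
  obtain ⟨W, hW, hsW, -⟩ := exists_isAffineOpen_mem_and_subset (x := s) (U := ⊤) trivial
  refine ⟨W, hsW, ?_⟩
  haveI : CompactSpace (W : Scheme.{u}) := isCompact_iff_compactSpace.1 hW.isCompact
  haveI : IsNoetherian (W : Scheme.{u}) := { }
  haveI : CompactSpace ((f ⁻¹ᵁ W : X.Opens) : Scheme.{u}) := QuasiCompact.compactSpace_of_compactSpace (f ∣_ W)
  haveI : IsLocallyNoetherian ((f ⁻¹ᵁ W : X.Opens) : Scheme.{u}) := LocallyOfFiniteType.isLocallyNoetherian (f ∣_ W)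
  haveI := QCohD.hasRpush (f ∣_ W)
  let F' := ((Scheme.Modules.restrictFunctor (f ⁻¹ᵁ W).ι).mapHomologicalComplex (ComplexShape.up ℤ)).obj F
  let e : (rd (f ⁻¹ᵁ W).ι).obj E ≅ DCoh.toD _ F' :=
    (rd (f ⁻¹ᵁ W).ι).mapIso eF.symm ≪≫ (rdQ (f ⁻¹ᵁ W).ι).app F
  have hF' : DCoh.IsPerfect (DCoh.toD _ F') := isPerfect_of_iso e (isPerfect_rd (f ⁻¹ᵁ W).ι hE)
  obtain ⟨hc, -⟩ := isCohD_and_bounded_of_isPerfect hF'
  obtain ⟨a, b, hab⟩ := TorTest.exists_interval f F (T := (f ⁻¹ᵁ W : Set X))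
    (QuasiCompact.isCompact_preimage (f := f) W W.2 hW.isCompact) hT
  have hP := ProperSupp.isPerfect_rpush (f ∣_ W) F'
    ⟨hc, fun i => ⟨H10Coh.isClosed_support _ (hc i).2, inferInstance⟩⟩ (le_max_left a b) fun x =>
      TorTest.at_cancel (f ∣_ W) W.ι ((TorTest.at_congr (morphismRestrict_ι f W).symm _ _ F' x).1
        ((TorTest.at_restrict (f ⁻¹ᵁ W).ι f _ _ F x).2 (TorTest.at_mono le_rfl (le_max_right a b) (hab x.1 x.2))))
  obtain ⟨e'⟩ := nonempty_restrictD_rpush_iso f W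
  exact isPerfect_of_iso (e'.app E ≪≫ (DCoh.Rpush (f ∣_ W)).mapIso e).symm hP

end Groth.Agent.H16Derived.Exchange
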