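import Groth.Agent.H16Derived.Exchange.ProjPC
import Groth.Agent.H16Derived.Exchange.ProperPerf
import Groth.Agent.H16Derived.BaseChange.FinitePC

/-!
# Direct images of perfect objects along projective perfect morphisms
-/

set_option autoImplicit false
set_option linter.style.haveILetI false
set_option backward.isDefEq.respectTransparency false

universe u

open CategoryTheory CategoryTheory.Limits AlgebraicGeometry

attribute [local instance] HasDerivedCategory.standard

namespace Groth.Agent.H16Derived.Exchange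

open Groth.Agent.H16Derived.KFlat Groth.Agent.H16Derived.KFlat.Stalk H8Props H8Props.PushPC H8Props.RelPC

variable {X Y P S : Scheme.{u}}

/-- Pseudo-coherent morphisms have good charts. -/
theorem pcMor_of_isPseudoCoherentMor (g : P ⟶ S) (hg : MoreMor.IsPseudoCoherentMor g) : PCMor g := by
  intro W V e n φ hφ
  haveI : IsIso (W : P.Opens).toSpecΓ := by
    rw [← W.2.isoSpec_hom]
    infer_instance
  haveI : IsClosedImmersion (Spec.map (CommRingCat.ofHom φ)) :=
    IsClosedImmersion.spec_of_surjective _ hφ.1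
  letI := (g.appLE (V : S.Opens) (W : P.Opens) e).hom.toAlgebra
  let ψ : MvPolynomial (Fin n) Γ(S, (V : S.Opens)) →ₐ[Γ(S, (V : S.Opens))] Γ(P, (W : P.Opens)) :=
    { φ with commutes' := fun a => congr($(hφ.2) a) }
  let d := MvPolynomial.renameEquiv Γ(S, (V : S.Opens)) (Equiv.ulift.{u} (α := Fin n))
  have h1 := PseudoCoh.rfp_of_isPseudoCoherentHom
    (hg W V W.2 V.2 e) (ψ.comp d.toAlgHom)
    (hφ.1.comp d.surjective)
  have h2 : PseudoCoh.RFP φ := PseudoCoh.RFP.of_comp (PseudoCoh.rfp_of_bijective _ d.bijective) h1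
  intro m
  have h3 := pcStr_specMap φ hφ.1 h2
  let j := (W : P.Opens).toSpecΓ
  let i := Spec.map (CommRingCat.ofHom φ)
  refine isPseudoCoherentD_of_iso
    ((pushDInD i _) ≪≫ (DerivedCategory.singleFunctor _ 0).mapIso
      ((Scheme.Modules.pushforwardComp j i).app _)) ?_
  exact (pc_pushD_iff i h3 _ m).1 (pcStr_of_isIso j m)

/-- **Direct images of perfect objects along projective perfect morphisms.** -/
theorem isPerfect_rpush_projective_of_perfectMor (r : ℕ) (i : X ⟶ CohB1.ProjSpaceOver r Y) [IsClosedImmersion i]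
    (hf : MoreMor.IsPerfectMor (i ≫ CohB1.ProjSpaceOver.toBase r Y))
    [DCoh.HasRpush (i ≫ CohB1.ProjSpaceOver.toBase r Y)] {E : DCoh.D X} (hE : DCoh.IsPerfect E) :
    DCoh.IsPerfect ((DCoh.Rpush (i ≫ CohB1.ProjSpaceOver.toBase r Y)).obj E) := by
  haveI : IsProper (CohB1.ProjSpaceOver.toBase r Y) := H27Weil.isProper_toBase r Y
  let f := i ≫ CohB1.ProjSpaceOver.toBase r Y
  haveI : LocallyOfFiniteType f := inferInstance
  have hpc : DerSch.IsPseudoCoherentRelAll f E := fun m =>
    (rel_iff_abs f (pcMor_of_isPseudoCoherentMor f fun U V hU hV hUV => (hf U V hU hV hUV).1) m E).2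
      (isPseudoCoherentD_of_isPerfect hE m)
  let F := DerivedCategory.Q.objPreimage E
  let eF : DCoh.toD X F ≅ E := DerivedCategory.Q.objObjPreimageIso E
  let K := DerivedCategory.Q.objPreimage ((DCoh.Rpush f).obj (DCoh.toD X F))
  let eK : DCoh.toD Y K ≅ (DCoh.Rpush f).obj (DCoh.toD X F) := DerivedCategory.Q.objObjPreimageIso _
  have hF : DCoh.IsPerfect (DCoh.toD X F) := isPerfect_of_iso eF.symm hE
  have hT : DerSch.LocFiniteTorAmplitude (𝟙 Y) K :=
    TorTest.locFiniteTorAmplitudeD_rpush f (𝟙 Y) f F (Category.comp_id f)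
      (BaseChange.isQCohD_of_pc (isPseudoCoherentD_of_isPerfect hF))
      (locFiniteTorAmplitude_of_perfectMor f hf hF) K ⟨eK⟩
  let eE : DCoh.toD Y K ≅ (DCoh.Rpush f).obj E := eK ≪≫ (DCoh.Rpush f).mapIso eF
  exact isPerfect_of_iso eE (BaseChange.isPerfect_of_locFiniteTorAmplitude
    (fun m => isPseudoCoherentD_of_iso eE.symm
      (isPseudoCoherentD_rpush_projective r i (fun k => pushD_pc_of_rel r i hpc k) m)) hT)

end Groth.Agent.H16Derived.Exchange
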