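import Groth.Agent.H16Derived.Exchange.ProjPC
import Groth.Agent.H8Props.RelPCCompPC
import Groth.Agent.H8Props.RelPCBaseChange
import Groth.Agent.H16Derived.RelPCOpen
import Groth.Agent.H16Derived.KFlat.RestrictD
import Groth.Agent.H16Derived.KFlat.PushPull
import Groth.Agent.LeadVA.Spread
import Mathlib.AlgebraicGeometry.ZariskisMainTheorem

/-!
# Relative pseudo-coherence of direct images along projective morphisms
-/

set_option autoImplicit false
set_option linter.style.haveILetI false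
set_option backward.isDefEq.respectTransparency false

universe u

open CategoryTheory CategoryTheory.Limits AlgebraicGeometry

attribute [local instance] HasDerivedCategory.standard

namespace Groth.Agent.H16Derived.Exchange

open Groth.Agent.H16Derived.KFlat Groth.Agent.H16Derived.KFlat.Stalk H8Props H8Props.PushPC H8Props.RelPC

variable {X Y S : Scheme.{u}}

/-- A flat morphism locally of finite presentation is pseudo-coherent. -/
theorem isNPseudoCoherent_of_flat (b : Y ⟶ S) [Flat b] [LocallyOfFinitePresentation b] (n : ℤ) :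
    DerSch.IsNPseudoCoherent b n :=
  (rel_iff_abs b (pcMor_of_flat b) n _).2
    (isPseudoCoherentD_of_iso (inDIsoQ _) (isPseudoCoherentD_of_isPerfect (isPerfect_inD (isFinLocFree_structure Y)) n))

/-- **Direct images along projective morphisms preserve relative pseudo-coherence.** -/
theorem isPseudoCoherentRelAll_rpush_projective (q : Y ⟶ S) [LocallyOfFiniteType q] (r : ℕ)
    (i : X ⟶ CohB1.ProjSpaceOver r Y) [IsClosedImmersion i]
    [DCoh.HasRpush (i ≫ CohB1.ProjSpaceOver.toBase r Y)] (E : DCoh.D X)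
    (hE : DerSch.IsPseudoCoherentRelAll ((i ≫ CohB1.ProjSpaceOver.toBase r Y) ≫ q) E) :
    DerSch.IsPseudoCoherentRelAll q ((DCoh.Rpush (i ≫ CohB1.ProjSpaceOver.toBase r Y)).obj E) := by
  haveI : IsProper (CohB1.ProjSpaceOver.toBase r Y) := H27Weil.isProper_toBase r Y
  intro m
  refine rel_of_charts q m _ fun U V e n φ hφ => ?_
  haveI := isClosedImmersion_chartImm U.2 φ hφ.1
  rw [chartPC_iff]
  let f := i ≫ CohB1.ProjSpaceOver.toBase r Y
  let A := Spec (CommRingCat.of (MvPolynomial (Fin n) Γ(S, (V : S.Opens))))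
  let g : ((U : Y.Opens) : Scheme.{u}) ⟶ A := DerSch.chartImm (U : Y.Opens) φ
  let W := f ⁻¹ᵁ (U : Y.Opens)
  let p : (W : Scheme.{u}) ⟶ A := (f ∣_ (U : Y.Opens)) ≫ g
  haveI : IsProper f := inferInstance
  haveI : IsClosedImmersion g := isClosedImmersion_chartImm U.2 φ hφ.1
  haveI : IsProper p := inferInstance
  let i' : (W : Scheme.{u}) ⟶ CohB1.ProjSpaceOver r A :=
    pullback.lift (W.ι ≫ i ≫ LeadVA.pfst r Y) p (specULiftZIsTerminal.hom_ext _ _)
  have hi' : i' ≫ CohB1.ProjSpaceOver.toBase r A = p := pullback.lift_snd _ _ _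
  have hi'' : i' ≫ LeadVA.pfst r A = W.ι ≫ i ≫ LeadVA.pfst r Y := pullback.lift_fst _ _ _
  haveI : IsProper (CohB1.ProjSpaceOver.toBase r A) := H27Weil.isProper_toBase r A
  haveI : IsProper i' := by
    haveI : IsProper (i' ≫ CohB1.ProjSpaceOver.toBase r A) := hi' ▸ inferInstance
    exact IsProper.of_comp i' (CohB1.ProjSpaceOver.toBase r A)
  haveI : Mono i' := ⟨fun {Z} a b h => by
    have h1 : a ≫ p = b ≫ p := by rw [← hi', ← Category.assoc, h, Category.assoc]
    have h2 : a ≫ (f ∣_ (U : Y.Opens)) = b ≫ (f ∣_ (U : Y.Opens)) := by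
      rw [← cancel_mono g, Category.assoc, Category.assoc]; exact h1
    have h3 : a ≫ W.ι ≫ f = b ≫ W.ι ≫ f := by
      rw [← morphismRestrict_ι f (U : Y.Opens), ← Category.assoc, h2, Category.assoc]
    rw [← cancel_mono W.ι, ← cancel_mono i]
    refine LeadVA.hom_ext_toProj ?_ ?_
    · have h4 : (a ≫ i') ≫ LeadVA.pfst r A = (b ≫ i') ≫ LeadVA.pfst r A := by rw [h]
      simpa only [Category.assoc, hi''] using h4
    · simpa only [Category.assoc] using h3⟩
  haveI : IsClosedImmersion i' := (IsClosedImmersion.iff_isProper_and_mono i').2 ⟨‹_›, ‹_›⟩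
  let b : A ⟶ S := Spec.map (CommRingCat.ofHom MvPolynomial.C) ≫ V.2.fromSpec
  haveI : Flat (Spec.map (CommRingCat.ofHom (MvPolynomial.C : Γ(S, (V : S.Opens)) →+* MvPolynomial (Fin n) Γ(S, (V : S.Opens))))) :=
    (HasRingHomProperty.Spec_iff (P := @Flat)).2 (RingHom.flat_algebraMap_iff.2 inferInstance)
  haveI : LocallyOfFinitePresentation (Spec.map (CommRingCat.ofHom (MvPolynomial.C : Γ(S, (V : S.Opens)) →+* MvPolynomial (Fin n) Γ(S, (V : S.Opens))))) :=
    (HasRingHomProperty.Spec_iff (P := @LocallyOfFinitePresentation)).2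
      (RingHom.finitePresentation_algebraMap.2 inferInstance)
  have hgb : g ≫ b = (U : Y.Opens).ι ≫ q := by
    show ((U : Y.Opens).toSpecΓ ≫ Spec.map (CommRingCat.ofHom φ)) ≫ Spec.map (CommRingCat.ofHom MvPolynomial.C) ≫ V.2.fromSpec = _
    rw [Category.assoc, ← Category.assoc (Spec.map _), ← Spec.map_comp, ← CommRingCat.ofHom_comp, hφ.2,
      CommRingCat.ofHom_hom, IsAffineOpen.SpecMap_appLE_fromSpec q V.2 U.2 e, IsAffineOpen.toSpecΓ_fromSpec_assoc]
  have hp : p ≫ b = W.ι ≫ f ≫ q := by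
    rw [Category.assoc, hgb, ← Category.assoc, morphismRestrict_ι, Category.assoc]
  haveI : LocallyOfFiniteType p := inferInstance
  have hrel : DerSch.IsPseudoCoherentRelAll (i' ≫ CohB1.ProjSpaceOver.toBase r A) ((rd W.ι).obj E) := fun k => by
    rw [hi']
    refine (rel_comp_iff' p b (rfpMor_of_isNPseudoCoherent b (isNPseudoCoherent_of_flat b)) k _).1 ?_
    rw [hp]
    exact RelPCOpen.rel_restrict (hE k) W
  haveI := QCohD.hasRpush (f ∣_ (U : Y.Opens))
  haveI := QCohD.hasRpush g
  haveI := QCohD.hasRpush p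
  haveI := QCohD.hasRpush (i' ≫ CohB1.ProjSpaceOver.toBase r A)
  obtain ⟨e'⟩ := nonempty_restrictD_rpush_iso f (U : Y.Opens)
  obtain ⟨ec⟩ := nonempty_rpushCompIso (f ∣_ (U : Y.Opens)) g
  obtain ⟨eg⟩ := RpushAffine.nonempty_rpush_closed g ((DCoh.Rpush (f ∣_ (U : Y.Opens))).obj ((rd W.ι).obj E))
  obtain ⟨eh⟩ := RpushAffine.nonempty_rpush_congr hi'
  have hpush := isPseudoCoherentD_rpush_projective r i' (fun k => pushD_pc_of_rel r i' hrel k) m
  exact isPseudoCoherentD_of_iso (eh.app _ ≪≫ (ec.app _).symm ≪≫ eg ≪≫ (pushD g).mapIso (e'.app E).symm) hpush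

end Groth.Agent.H16Derived.Exchange
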