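import Groth.Agent.H16Derived.Exchange.Reduced
import Groth.Agent.H16Derived.Exchange.RelCoh
import Groth.Agent.H16Derived.TorTest.RpushAmpLoc
import Groth.Agent.H16Derived.ProperSupp.Perfect
import Groth.Agent.H16Derived.Dual.Symm
import Groth.Agent.H10Coh.Support

/-!
# `M ↦ R^p f_*(Lf^* M ⊗^L F)` as `M ↦ H^p(M ⊗^L Rf_* F)`
-/

set_option autoImplicit false
set_option linter.style.haveILetI false
set_option backward.isDefEq.respectTransparency false

universe u

open CategoryTheory CategoryTheory.Limits AlgebraicGeometry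

attribute [local instance] HasDerivedCategory.standard

namespace Groth.Agent.H16Derived.Exchange

open Groth.Agent.H16Derived.KFlat Groth.Agent.H16Derived.KFlat.Stalk

variable {X Y : Scheme.{u}}

/-- `- ⊗^L k ≅ k ⊗^L -`. -/
noncomputable def flipObjIso (k : DCoh.D X) : (Dual.T X).flip.obj k ≅ (Dual.T X).obj k :=
  NatIso.ofComponents (fun a => Dual.σ a k) (fun φ => Dual.σ_naturality_left φ k)

/-- Betti numbers only depend on the isomorphism class. -/
theorem betti_congr {E E' : DCoh.D X} (e : E ≅ E') (x : X) [DCoh.HasLpull (X.fromSpecResidueField x)] (i : ℤ) :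
    PerfD.betti E x i = PerfD.betti E' x i := by
  rw [betti_eq_fdim E x i default, betti_eq_fdim E' x i default]
  exact ((DerSch.stalkFunctor _ default).mapIso ((DerivedCategory.homologyFunctor _ i).mapIso
    ((DCoh.Lpull (X.fromSpecResidueField x)).mapIso e))).toLinearEquiv.finrank_eq

variable (f : X ⟶ Y) [QuasiCompact f] [QuasiSeparated f] [DCoh.HasLpull f] [DCoh.HasRpush f]
  (F : CochainComplex X.Modules ℤ) [DCoh.HasLTensorCx F]

/-- The functor through the projection formula. -/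
theorem exists_pushΦIso (hq : DCoh.IsQCohD (DCoh.toD X F)) :
    ∃ (P : CochainComplex Y.Modules ℤ) (_ : kflat Y P),
      Nonempty (DCoh.toD Y P ≅ (DCoh.Rpush f).obj (DCoh.toD X F)) ∧ ∀ p : ℤ,
      Nonempty ((QCohCat.isQCoh Y).ι ⋙ DerivedCategory.singleFunctor Y.Modules 0 ⋙ DCoh.Lpull f ⋙
          DCoh.LTensorCx F ⋙ DCoh.Rpush f ⋙ DerivedCategory.homologyFunctor Y.Modules p ≅
        (QCohCat.isQCoh Y).ι ⋙ Φ P p) := by
  haveI := isGrothendieckAbelian_modules (X := X)
  obtain ⟨N, j, hN⟩ := KInjRes.exists_resolution_functor (A := X.Modules)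
  let I := N.obj F
  haveI : I.IsKInjective := (hN F).2.2.1
  haveI : IsIso (DerivedCategory.Q.map (j.app F)) := isIso_Q_map _ (hN F).2.1
  let eI : DerivedCategory.Q.obj I ≅ DCoh.toD X F := (asIso (DerivedCategory.Q.map (j.app F))).symm
  have hI : DCoh.IsQCohD (DerivedCategory.Q.obj I) := QCohD.isQCohD_iso eI.symm hq
  haveI := ProjFormula.isIso_η₀ f I
  let eR : DerivedCategory.Q.obj ((ProjFormula.pushCx f).obj I) ≅ (DCoh.Rpush f).obj (DCoh.toD X F) :=
    asIso ((ProjFormula.η₀ f).app I) ≪≫ (DCoh.Rpush f).mapIso eI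
  obtain ⟨P, hP, ⟨eP⟩⟩ := exists_kflat_rep ((DCoh.Rpush f).obj (DCoh.toD X F))
  haveI := hasLTensorCx P
  refine ⟨P, hP, ⟨eP⟩, fun p => ⟨?_⟩⟩
  let s := (QCohCat.isQCoh Y).ι ⋙ DerivedCategory.singleFunctor Y.Modules 0
  let A : s ⋙ DCoh.Lpull f ⋙ DCoh.LTensorCx F ⋙ DCoh.Rpush f ≅ s ⋙ ProjFormula.GG f I :=
    Functor.isoWhiskerLeft s (Functor.isoWhiskerLeft (DCoh.Lpull f) (Functor.isoWhiskerRight
      ((Dual.ltensorCxIsoT F).symm ≪≫ (Dual.T X).flip.mapIso eI.symm ≪≫ flipObjIso _) (DCoh.Rpush f)))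
  let B : s ⋙ ProjFormula.FF f I ≅ s ⋙ ProjFormula.GG f I :=
    NatIso.ofComponents
      (fun M => @asIso _ _ _ _ _ (ProjFormula.isIso_θ_of_isQCohD f I hI (s.obj M)
        (TorTest.isQCohD_inD M.property)))
      (fun {M M'} φ => (ProjFormula.θ f I).naturality (s.map φ))
  let C : s ⋙ ProjFormula.FF f I ≅ s ⋙ DCoh.LTensorCx P :=
    Functor.isoWhiskerLeft s ((flipObjIso _).symm ≪≫ (Dual.T Y).flip.mapIso (eR ≪≫ eP.symm) ≪≫
      Dual.ltensorCxIsoT P)
  exact Functor.isoWhiskerRight (A ≪≫ B.symm ≪≫ C) (DerivedCategory.homologyFunctor Y.Modules p) ≪≫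
    Functor.isoWhiskerLeft (QCohCat.isQCoh Y).ι (gfunIso P p hP (Iso.refl _))

omit [QuasiCompact f] [QuasiSeparated f] [DCoh.HasLpull f] [DCoh.HasLTensorCx F] in
/-- `Rf_* F` is perfect. -/
theorem isPerfect_rpush_of_perfectRel [IsNoetherian Y] [IsProper f] (hF : DerSch.IsPerfectRel f F) :
    DCoh.IsPerfect ((DCoh.Rpush f).obj (DCoh.toD X F)) ∧ DCoh.IsQCohD (DCoh.toD X F) := by
  have hc := isCohD_of_isPseudoCoherentRelAll f hF.1
  haveI : CompactSpace X := QuasiCompact.compactSpace_of_compactSpace f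
  obtain ⟨a, b, hab⟩ := TorTest.exists_interval f F (T := (Set.univ : Set X)) isCompact_univ hF.2
  have hPS : ProperSupp.PS f (DCoh.toD X F) := ⟨hc, fun i => by
    have hcl := H10Coh.isClosed_support _ (hc i).2
    exact ⟨hcl, inferInstance⟩⟩
  exact ⟨ProperSupp.isPerfect_rpush f F hPS (le_max_left a b) fun x =>
    TorTest.at_mono le_rfl (le_max_right a b) (hab x (Set.mem_univ x)), fun i => (hc i).1⟩

end Groth.Agent.H16Derived.Exchange
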