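import Groth.Agent.H16Derived.Exchange.Exact

/-!
# Exactness on quasi-coherent modules gives exactness at every point
-/

set_option autoImplicit false
set_option linter.style.haveILetI false
set_option backward.isDefEq.respectTransparency false

universe u

open CategoryTheory CategoryTheory.Limits AlgebraicGeometry

attribute [local instance] HasDerivedCategory.standard

namespace Groth.Agent.H16Derived.Exchange

open Groth.Agent.H16Derived.KFlat Groth.Agent.H16Derived.KFlat.Stalk

variable {X : Scheme.{u}} [QuasiSeparatedSpace X] (P : CochainComplex X.Modules ℤ) (p : ℤ)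

/-- The test on quasi-coherent modules. -/
theorem tfun_of_qcoh [((QCohCat.isQCoh X).ι ⋙ Φ P p).PreservesMonomorphisms]
    [((QCohCat.isQCoh X).ι ⋙ Φ P p).PreservesEpimorphisms] (x : X) :
    (CohIII.TFun ((TorTest.Sx x).obj P) p).PreservesMonomorphisms ∧
      (CohIII.TFun ((TorTest.Sx x).obj P) p).PreservesEpimorphisms := by
  have hs : ∀ M, Coh.IsQCoh ((spreadF x).obj M) := fun M => TorTest.isQCoh_spread x M
  have hi : ∀ {A B : X.Modules} (f : A ⟶ B), Coh.IsQCoh A → Coh.IsQCoh B → Coh.IsQCoh (Abelian.image f) :=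
    fun {A B} f hA hB => by
      haveI : A.IsQuasicoherent := hA
      haveI : B.IsQuasicoherent := hB
      haveI := H10Coh.isQuasicoherent_cokernel f
      exact H10Coh.isQuasicoherent_kernel (cokernel.π f)
  refine ⟨preservesMono_tfun P p x Coh.IsQCoh hs hi fun {A B} f hA hB hf => ?_,
    preservesEpi_tfun P p x Coh.IsQCoh hs hi fun {A B} f hA hB hf => ?_⟩
  · let f' : (⟨A, hA⟩ : QCohCat.QCoh X) ⟶ ⟨B, hB⟩ := ObjectProperty.homMk f
    haveI : Mono f' := (QCohCat.isQCoh X).ι.mono_of_mono_map hf
    haveI : Mono ((Φ P p).map f) := inferInstanceAs (Mono (((QCohCat.isQCoh X).ι ⋙ Φ P p).map f'))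
    exact inferInstanceAs (Mono ((DerSch.stalkFunctor X x).map ((Φ P p).map f)))
  · let f' : (⟨A, hA⟩ : QCohCat.QCoh X) ⟶ ⟨B, hB⟩ := ObjectProperty.homMk f
    haveI : Epi f' := (QCohCat.isQCoh X).ι.epi_of_epi_map hf
    haveI : Epi ((Φ P p).map f) := inferInstanceAs (Epi (((QCohCat.isQCoh X).ι ⋙ Φ P p).map f'))
    exact inferInstanceAs (Epi ((DerSch.stalkFunctor X x).map ((Φ P p).map f)))

end Groth.Agent.H16Derived.Exchange
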