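import Groth.Agent.H16Derived.Exchange.Exact
import Groth.Agent.H06FlatCx.FibreDim

/-!
# Constant fibre dimensions on a reduced scheme
-/

set_option autoImplicit false
set_option linter.style.haveILetI false
set_option backward.isDefEq.respectTransparency false

universe u

open CategoryTheory CategoryTheory.Limits AlgebraicGeometry

attribute [local instance] HasDerivedCategory.standard

namespace Groth.Agent.H16Derived.Exchange

open Groth.Agent.H16Derived.KFlat Groth.Agent.H16Derived.KFlat.Stalk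

variable {X : Scheme.{u}} [IsReduced X]

/-- Locally constant fibre dimension implies flatness. -/
theorem isFlat_of_rfd (M : X.Modules) (hM : Coh.IsQCoh M) (hft : CohB1.IsFT M)
    (h : ∀ x, ∀ᶠ y in nhds x, rfd M y = rfd M x) : FlatMod.IsFlat M := fun x => by
  obtain ⟨_, ⟨U, hU : IsAffineOpen U, rfl⟩, hxU, -⟩ :=
    X.isBasis_affineOpens.exists_subset_of_mem_open (Set.mem_univ x) isOpen_univ
  haveI := H29Fitt.finite_sections M hM hft ⟨U, hU⟩
  have hmem : ∀ q, hU.fromSpec q ∈ U := fun q => hU.range_fromSpec.le ⟨q, rfl⟩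
  have hq : ∀ q, H06FlatCx.fibDim (A := Γ(X, U)) Γ(M, U) q = rfd M (hU.fromSpec q) := fun q => by
    have e : hU.primeIdealOf ⟨hU.fromSpec q, hmem q⟩ = q :=
      hU.fromSpec.isOpenEmbedding.injective (hU.fromSpec_primeIdealOf _)
    have h1 := H8Props.FinLocFree.finrank_stalk_fibre M hM hft hU ⟨hU.fromSpec q, hmem q⟩
    rw [e] at h1
    exact h1.symm
  haveI : Module.Flat Γ(X, U) Γ(M, U) := H06FlatCx.flat_of_isLocallyConstant_fibDim _
    ((IsLocallyConstant.iff_eventually_eq _).2 fun q =>
      ((hU.fromSpec.continuous.tendsto q).eventually (h _)).mono fun q' hq' => by rw [hq, hq, hq'])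
  exact (H8Props.FinLocFree.flat_sections_iff M hM hU).1 this ⟨x, hxU⟩

/-- A constant Betti number makes the functor exact at every point. -/
theorem tfun_of_betti [∀ x : X, DCoh.HasLpull (X.fromSpecResidueField x)] (F : CochainComplex X.Modules ℤ) (p : ℤ)
    (hE : DCoh.IsPseudoCoherentD (p - 1) (DCoh.toD X F))
    (hc : IsLocallyConstant (fun x : X => PerfD.betti (DCoh.toD X F) x p))
    {P : CochainComplex X.Modules ℤ} (hP : kflat X P) (eP : DCoh.toD X P ≅ DCoh.toD X F) (x : X) :
    (CohIII.TFun ((TorTest.Sx x).obj P) p).PreservesMonomorphisms ∧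
      (CohIII.TFun ((TorTest.Sx x).obj P) p).PreservesEpimorphisms := by
  obtain ⟨W, S, α, hx, hS, hα, hy⟩ := exists_approx F p hE hP eP x
  have c1 := isQCoh_isFT_coker hS (p - 1) p
  have c2 := isQCoh_isFT_coker hS p (p + 1)
  have hboth : ∀ y : W, ∀ᶠ z in nhds y, rfd (cokernel (S.d (p - 1) p)) z = rfd (cokernel (S.d (p - 1) p)) y ∧
      rfd (cokernel (S.d p (p + 1))) z = rfd (cokernel (S.d p (p + 1))) y := fun y => by
    filter_upwards [eventually_rfd_le _ c1.1 c1.2 y, eventually_rfd_le _ c2.1 c2.2 y,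
      eventually_rfd_eq _ (hS.2 (p + 1)) y,
      (W.ι.continuous.tendsto y).eventually (hc.eventually_eq _)] with z h1 h2 h3 h4
    have a1 := betti_formula (DCoh.toD X F) W S hS α (p - 1) hα z p (by omega)
    have a2 := betti_formula (DCoh.toD X F) W S hS α (p - 1) hα y p (by omega)
    have h4' : PerfD.betti (DCoh.toD X F) (W.ι.base z) p = PerfD.betti (DCoh.toD X F) (W.ι.base y) p := h4
    omega
  exact ⟨(hy ⟨x, hx⟩).1.2 (isFlat_of_rfd _ c1.1 c1.2 (fun y => (hboth y).mono fun z hz => hz.1) _),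
    (hy ⟨x, hx⟩).2.1.2 (isFlat_of_rfd _ c2.1 c2.2 (fun y => (hboth y).mono fun z hz => hz.2) _)⟩

end Groth.Agent.H16Derived.Exchange
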