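import Groth.Agent.H15Site.ModAssoc
import Groth.Agent.H16Derived.DerComp.SiteTensor

/-!
# Flat amplitude of the derived tensor product on a ringed site
-/

set_option autoImplicit false
set_option linter.style.haveILetI false

universe u

open CategoryTheory CategoryTheory.Limits

namespace Groth.Agent.H16Derived.Exchange

open H15Site H15Site.ModTensor H15Site.ModKFlat DerCompLib

attribute [local instance] HasDerivedCategory.standard
attribute [local instance 10000] SiteInst.hasSheafifySite SiteInst.hasWeakSheafifySite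

variable {C : Type u} [SmallCategory C] {J : GrothendieckTopology C} {O : Sheaf J CommRingCat.{u}}

/-- The tensor product of flat modules is flat. -/
theorem isFlat_tt (M N : ModSite.Mod O) (hM : ModSite.IsFlat M) (hN : ModSite.IsFlat N) :
    ModSite.IsFlat (((ModSite.tensorBi O).obj M).obj N) := by
  rw [isFlat_iff] at hM hN ⊢
  let e : tR M ⋙ tR N ≅ tR (((ModSite.tensorBi O).obj M).obj N) :=
    NatIso.ofComponents (fun G => assocApp G M N)
      (fun f => congr_app (congr_app ((tAssoc (O := O)).hom.naturality f) M) N)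
  haveI := hM
  haveI := hN
  haveI : (tR M ⋙ tR N).PreservesMonomorphisms := inferInstance
  exact Functor.PreservesMonomorphisms.of_iso e

/-- A coproduct of flat modules indexed by a small type is flat. -/
theorem isFlat_sigma {ι : Type} (f : ι → ModSite.Mod O) (hf : ∀ i, ModSite.IsFlat (f i)) [HasCoproduct f] :
    ModSite.IsFlat (∐ f) := by
  have := H10Coh.isGrothendieckAbelian_sheafOfModules (ModSite.ringSh O)
  haveI : HasFiniteBiproducts (ModSite.Mod O) := Abelian.hasFiniteBiproducts
  haveI : AB4OfSize.{u} (ModSite.Mod O) := AB4.of_AB5 (ModSite.Mod O)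
  haveI : HasExactColimitsOfShape (Discrete (ULift.{u} ι)) (ModSite.Mod O) := inferInstance
  let g : ULift.{u} ι → ModSite.Mod O := fun i => f i.down
  have h : ModSite.IsFlat (∐ g) :=
    isFlat_of_isColimit (D := Discrete.functor g) (fun k => hf k.as.down) _ (colimit.isColimit _)
  exact isFlat_of_iso (Sigma.whiskerEquiv (f := g) (g := f) Equiv.ulift (fun i => Iso.refl (f i.down))) h

/-- Flat amplitudes add. -/
theorem exists_flatModel_tensor (F : CochainComplex (ModSite.Mod O) ℤ) [ModSite.HasLTensorCx F]
    (P : CochainComplex (ModSite.Mod O) ℤ) (m n m' n' : ℤ)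
    (hP : ∀ i, ModSite.IsFlat (P.X i)) (hPb : ∀ i, i < m ∨ n < i → IsZero (P.X i))
    (hF : ∀ i, ModSite.IsFlat (F.X i)) (hFb : ∀ i, i < m' ∨ n' < i → IsZero (F.X i)) :
    ∃ G : CochainComplex (ModSite.Mod O) ℤ, (∀ i, ModSite.IsFlat (G.X i)) ∧
      (∀ i, i < m + m' ∨ n + n' < i → IsZero (G.X i)) ∧
      Nonempty (DerivedCategory.Q.obj G ≅ (ModSite.LTensorCx F).obj (DerivedCategory.Q.obj P)) := by
  haveI := ModKFlat.countableAB4 (O := O)
  haveI := hasExactColimitsOfShape_nat (O := O)
  have hK : KFlat.IsKFlat (ModSite.tensorBi O).flip P :=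
    KFlat.isKFlat_of_boundedAbove P n (fun q hq => hPb q (Or.inr hq)) fun q => isFlatObj_flip _ (hP q)
  refine ⟨((ModSite.tensorCx O).obj P).obj F, fun i => ?_, fun i hi => ?_,
    ⟨(@asIso _ _ _ _ _ (isIso_LTensorCx_counit O F P hK)).symm⟩⟩
  · exact isFlat_sigma _ fun k => isFlat_tt _ _ (hP _) (hF _)
  · rw [IsZero.iff_id_eq_zero]
    refine HomologicalComplex.mapBifunctor.hom_ext fun p q hpq => ?_
    refine IsZero.eq_of_src ?_ _ _
    have hpq' : p + q = i := hpq
    by_cases h : p < m ∨ n < p
    · exact ((ModSite.tensorBi O).map_isZero (hPb p h)).obj _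
    · exact ((ModSite.tensorBi O).obj _).map_isZero (hFb q (by omega))

end Groth.Agent.H16Derived.Exchange
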